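import Cfsg.Agent.FGS4.SchurSylow.Lifts

/-!
Stem extensions of a group with an involution having a conjugate four-group: the kernel has order at most two
once the two-part is settled modulo the square of a lift; and tools for Sylow subgroups.
-/

set_option autoImplicit false
set_option maxHeartbeats 2000000

namespace Cfsg.Agent.FGS2.J2.SchurTwoClass

open Cfsg.Agent.FGS4.SchurSylow
open scoped commutatorElement
open scoped Classical

universe u v

theorem sylow_card {G : Type v} [Group G] [Finite G] {n : ℕ} (hn : Nat.card G = n) {p k : ℕ} (hp : p.Prime)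
    (h1 : p ^ k ∣ n) (h2 : ¬ p ^ (k + 1) ∣ n) (S : Sylow p G) : Nat.card (S : Subgroup G) = p ^ k := by
  haveI := Fact.mk hp
  obtain ⟨m, hm⟩ := (IsPGroup.iff_card).1 S.isPGroup'
  rw [hm]
  congr 1
  have hd : Nat.card (S : Subgroup G) ∣ n :=
    hn ▸ Subgroup.card_subgroup_dvd_card _
  rw [hm] at hd
  refine le_antisymm ?_ ?_
  · by_contra h
    exact h2 ((pow_dvd_pow p (by omega)).trans hd)
  · refine (Nat.pow_dvd_pow_iff_le_right hp.one_lt).1 ?_
    rw [← hm]
    exact S.pow_dvd_card_of_pow_dvd_card (hn.symm ▸ h1)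

theorem three_sylow {G : Type v} [Group G] [Finite G] (hG : ∀ S : Sylow 3 G, Nat.card (S : Subgroup G) = 3 ^ 3) {u v w : G} (hu : u ^ 3 = 1) (hv : v ^ 3 = 1) (hw : w ^ 3 = 1)
    (hcomm : ⁅u, v⁆ = w) (huw : u * w = w * u) (hvw : v * w = w * v) (hw1 : w ≠ 1) :
    ∃ S : Sylow 3 G, (S : Subgroup G) = Subgroup.closure {u, v} := by
  haveI : Fact (Nat.Prime 3) := ⟨Nat.prime_three⟩
  have pz : ∀ {x : G}, x ^ 3 = 1 → IsPGroup 3 (Subgroup.zpowers x) := by
    rintro x hx ⟨y, i, rfl⟩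
    refine ⟨1, Subtype.ext ?_⟩
    show (x ^ i) ^ (3 ^ 1) = 1
    rw [pow_one, ← zpow_natCast, ← zpow_mul, mul_comm, zpow_mul, zpow_natCast, hx, one_zpow]
  set A := Subgroup.closure ({w, v} : Set G) with hA
  have hwA : w ∈ A := Subgroup.subset_closure (by simp)
  have hvA : v ∈ A := Subgroup.subset_closure (by simp)
  have hAc : ∀ x ∈ A, ∀ y ∈ A, x * y = y * x := by
    have hc := Subgroup.isMulCommutative_closure (k := ({w, v} : Set G)) (by
      rintro a (rfl | rfl) b (rfl | rfl) <;> first | rfl | exact hvw | exact hvw.symm)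
    exact fun x hx y hy => congrArg Subtype.val (hc.is_comm.comm ⟨x, hx⟩ ⟨y, hy⟩)
  have hAp : IsPGroup 3 A := by
    rintro ⟨x, hx⟩
    refine ⟨1, Subtype.ext ?_⟩
    show x ^ (3 ^ 1) = 1
    rw [pow_one]
    induction hx using Subgroup.closure_induction with
    | mem a ha => rcases ha with rfl | rfl <;> assumption
    | one => exact one_pow 3
    | mul a b ha hb iha ihb => rw [(show Commute a b from hAc a ha b hb).mul_pow, iha, ihb, one_mul]
    | inv a ha iha => rw [inv_pow, iha, inv_one]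
  have hnorm : Subgroup.zpowers u ≤ Subgroup.normalizer (A : Set G) := by
    rw [Subgroup.zpowers_le]
    refine Subgroup.mem_normalizer_fintype fun x hx => ?_
    have hle : A ≤ A.comap (MulAut.conj u).toMonoidHom := by
      rw [hA, Subgroup.closure_le]
      rintro y (rfl | rfl)
      · show u * y * u⁻¹ ∈ A
        rw [huw, mul_inv_cancel_right]; exact hwA
      · show u * y * u⁻¹ ∈ A
        have e : u * y * u⁻¹ = w * y := by rw [← hcomm, commutatorElement_def]; group
        rw [e]; exact mul_mem hwA hvA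
    exact hle hx
  have hT : IsPGroup 3 ↥(A ⊔ Subgroup.zpowers u) := hAp.to_sup_of_normal_left' (pz hu) hnorm
  obtain ⟨S, hS⟩ := hT.exists_le_sylow
  have hle : Subgroup.closure ({u, v} : Set G) ≤ A ⊔ Subgroup.zpowers u := by
    rw [Subgroup.closure_le]
    rintro y (rfl | rfl)
    · exact Subgroup.mem_sup_right (Subgroup.mem_zpowers y)
    · exact Subgroup.mem_sup_left hvA
  refine ⟨S, ?_⟩
  set T := Subgroup.closure ({u, v} : Set G) with hTd
  have huT : u ∈ T := Subgroup.subset_closure (by simp)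
  have hvT : v ∈ T := Subgroup.subset_closure (by simp)
  have hAT : A ≤ T := by
    rw [hA, Subgroup.closure_le]
    rintro y (rfl | rfl)
    · rw [SetLike.mem_coe, ← hcomm, commutatorElement_def]
      exact mul_mem (mul_mem (mul_mem huT hvT) (inv_mem huT)) (inv_mem hvT)
    · exact hvT
  have hne : ¬ u * v = v * u := fun e => hw1 (by rw [← hcomm, commutatorElement_eq_one_iff_mul_comm.2 e])
  have hlt1 : Subgroup.zpowers w < A := lt_of_le_of_ne (Subgroup.zpowers_le.2 hwA) fun e => hne (by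
    obtain ⟨i, hi⟩ := Subgroup.mem_zpowers_iff.1 (e.symm ▸ hvA : v ∈ Subgroup.zpowers w)
    rw [← hi]
    exact ((show Commute u w from huw).zpow_right i).eq)
  have hlt2 : A < T := lt_of_le_of_ne hAT fun e => hne (hAc u (e.symm ▸ huT) v hvA)
  have hTp : IsPGroup 3 T := hT.to_le hle
  refine (Subgroup.eq_of_le_of_card_ge (hle.trans hS) ?_).symm
  rw [hG S]
  have strict : ∀ {H K : Subgroup G}, H < K → Nat.card H < Nat.card K := fun {H K} h =>
    lt_of_le_of_ne (Subgroup.card_le_of_le h.le) fun e => h.ne (Subgroup.eq_of_le_of_card_ge h.le e.ge)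
  have c1 := strict hlt1
  have c2 := strict hlt2
  rw [Nat.card_zpowers, orderOf_eq_prime hw hw1] at c1
  obtain ⟨a, ha⟩ := (IsPGroup.iff_card).1 hAp
  obtain ⟨t, ht⟩ := (IsPGroup.iff_card).1 hTp
  rw [ha] at c1 c2
  rw [ht] at c2 ⊢
  have h1a : 1 < a := by
    by_contra hh
    have := Nat.pow_le_pow_right (n := 3) (by norm_num) (show a ≤ 1 by omega)
    omega
  have h2t : a < t := (Nat.pow_lt_pow_iff_right (by norm_num)).1 c2
  exact Nat.pow_le_pow_right (by norm_num) (by omega)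



theorem abel_key {A : Type u} [CommGroup A] {w a b c t : A}
    (e : w * (c * c) = t * ((w * (a * a)) * (w * (b * b)))) (ht : t * t = 1) :
    w * w = (c * (a * b)⁻¹) * (c * (a * b)⁻¹) * ((c * (a * b)⁻¹) * (c * (a * b)⁻¹)) := by
  apply Additive.ofMul.injective
  have e' := congrArg Additive.ofMul e
  have ht' := congrArg Additive.ofMul ht
  simp only [ofMul_mul, ofMul_one, ofMul_inv] at e' ht' ⊢
  linear_combination (norm := module) (-2 : ℤ) • e' - ht'

theorem ker_le_two {Q : Type v} [Group Q] {Γ : Type u} [Group Γ] [Finite Γ] (σ : Γ →* Q)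
    (hσ : Cfsg.IsStemExtension σ) {b u₁ u₂ : Q} (hb : b * b = 1)
    (h₁ : ∃ k, k * b * k⁻¹ = u₁) (h₂ : ∃ k, k * b * k⁻¹ = u₂) (h₁₂ : ∃ k, k * b * k⁻¹ = u₁ * u₂)
    (no_kernel_two : ∀ (Δ : Type u) (_ : Group Δ) (_ : Finite Δ) (τ : Δ →* Q), Cfsg.IsStemExtension τ →
      ∀ z ∈ τ.ker, orderOf z = 2 → (∀ w ∈ τ.ker, w * w = 1) → (∃ U : Δ, τ U = b ∧ U * U = 1) → False)
    (ker_prime : ∀ z ∈ σ.ker, ∀ q : ℕ, q.Prime → orderOf z = q → q = 2) :
    ∃ w : σ.ker, w * w = 1 ∧ ∀ x : σ.ker, x = 1 ∨ x = w := by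
  have hc : ∀ w ∈ σ.ker, ∀ y : Γ, y * w = w * y := fun w hw => Subgroup.mem_center_iff.1 (hσ.2.1 hw)
  have hcomm : ∀ x y : σ.ker, x * y = y * x := fun x y => Subtype.ext (hc _ y.2 x)
  obtain ⟨U, hU⟩ := hσ.1 b
  set w : σ.ker := ⟨U * U, by rw [MonoidHom.mem_ker, map_mul, hU, hb]⟩ with hwdef
  let sqr : σ.ker →* σ.ker :=
    { toFun := fun x => x * x
      map_one' := one_mul 1
      map_mul' := fun x y => by
        calc x * y * (x * y) = x * (y * x) * y := by simp [mul_assoc]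
          _ = x * x * (y * y) := by rw [hcomm y x]; simp [mul_assoc] }
  set N : Subgroup σ.ker := sqr.range ⊔ Subgroup.zpowers w with hN
  have step1 : N = ⊤ := by
    by_contra hne
    obtain ⟨u, hu⟩ : ∃ u, u ∉ N := by
      by_contra h
      push Not at h
      exact hne (eq_top_iff.2 fun x _ => h x)
    set M : Subgroup Γ := N.map σ.ker.subtype with hM
    have hMk : M ≤ σ.ker := Subgroup.map_subtype_le _
    haveI hMn : M.Normal := ⟨fun n hn g => by rwa [hc n (hMk hn) g, mul_inv_cancel_right]⟩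
    let τ := QuotientGroup.lift M σ hMk
    have hτk : ∀ q ∈ τ.ker, ∃ x ∈ σ.ker, QuotientGroup.mk' M x = q := by
      intro q hq
      obtain ⟨x, rfl⟩ := QuotientGroup.mk'_surjective M q
      exact ⟨x, hq, rfl⟩
    have hτ : Cfsg.IsStemExtension τ := by
      refine ⟨fun q => ?_, ?_, ?_⟩
      · obtain ⟨x, hx⟩ := hσ.1 q
        exact ⟨QuotientGroup.mk' M x, hx⟩
      · intro q hq
        obtain ⟨x, hx, rfl⟩ := hτk q hq
        refine Subgroup.mem_center_iff.2 fun y => ?_
        obtain ⟨y, rfl⟩ := QuotientGroup.mk'_surjective M y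
        rw [← map_mul, ← map_mul, hc x hx y]
      · intro q hq
        obtain ⟨x, hx, rfl⟩ := hτk q hq
        have := Subgroup.mem_map_of_mem (QuotientGroup.mk' M) (hσ.2.2 hx)
        rw [commutator_def, Subgroup.map_commutator,
          Subgroup.map_top_of_surjective _ (QuotientGroup.mk'_surjective M), ← commutator_def] at this
        exact this
    have hsq : ∀ q ∈ τ.ker, q * q = 1 := by
      intro q hq
      obtain ⟨x, hx, rfl⟩ := hτk q hq
      rw [← map_mul, QuotientGroup.mk'_apply, QuotientGroup.eq_one_iff]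
      exact ⟨sqr ⟨x, hx⟩, Subgroup.mem_sup_left ⟨_, rfl⟩, rfl⟩
    have hu' : QuotientGroup.mk' M (u : Γ) ≠ 1 := by
      intro h
      rw [QuotientGroup.mk'_apply, QuotientGroup.eq_one_iff] at h
      obtain ⟨v, hv, hvu⟩ := h
      exact hu (Subtype.ext hvu ▸ hv)
    refine no_kernel_two _ _ inferInstance τ hτ (QuotientGroup.mk' M (u : Γ)) u.2
      (orderOf_eq_prime (by rw [pow_two]; exact hsq _ u.2) hu') hsq
      ⟨QuotientGroup.mk' M U, hU, ?_⟩
    rw [← map_mul, QuotientGroup.mk'_apply, QuotientGroup.eq_one_iff]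
    exact ⟨w, Subgroup.mem_sup_right (Subgroup.mem_zpowers w), rfl⟩
  -- the square of a lift of a four-group involution gives `w² ∈ (K²)²`
  have hww : ∃ k : σ.ker, w * w = (k * k) * (k * k) := by
    obtain ⟨A, hA⟩ := hσ.1 u₁
    obtain ⟨B, hB⟩ := hσ.1 u₂
    have conjsq : ∀ {X : Γ} {q : Q}, σ X = q → (∃ k, k * b * k⁻¹ = q) →
        ∃ k : σ.ker, X * X = (w : Γ) * ((k : Γ) * k) := by
      intro X q hX hq
      obtain ⟨g, hg⟩ := hq
      obtain ⟨K, rfl⟩ := hσ.1 g
      obtain ⟨k, hk, rfl⟩ : ∃ k ∈ σ.ker, X = K * U * K⁻¹ * k := ⟨(K * U * K⁻¹)⁻¹ * X, by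
        rw [MonoidHom.mem_ker, map_mul, map_inv, map_mul, map_mul, map_inv, hU, hX, hg, inv_mul_cancel],
        (mul_inv_cancel_left _ _).symm⟩
      refine ⟨⟨k, hk⟩, ?_⟩
      calc K * U * K⁻¹ * k * (K * U * K⁻¹ * k) = K * U * K⁻¹ * (k * (K * U * K⁻¹)) * k := by group
        _ = K * (U * U) * K⁻¹ * (k * k) := by rw [← hc k hk]; group
        _ = _ := by rw [hc _ w.2 K, mul_inv_cancel_right]
    obtain ⟨ka, ea⟩ := conjsq hA h₁
    obtain ⟨kb, eb⟩ := conjsq hB h₂
    obtain ⟨kc, ec⟩ := conjsq (X := A * B) (by rw [map_mul, hA, hB]) h₁₂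
    have hA2 : A * A ∈ σ.ker := by rw [ea]; exact mul_mem w.2 (mul_mem ka.2 ka.2)
    have hab : σ A * σ B = σ B * σ A := by
      rw [hA, hB]
      have h1 : b * b = 1 := hb
      have h2 : u₂ * u₂ = 1 := by
        obtain ⟨g, hg⟩ := h₂
        rw [← hg]
        calc g * b * g⁻¹ * (g * b * g⁻¹) = g * (b * b) * g⁻¹ := by group
          _ = 1 := by rw [h1]; group
      have h3 : (u₁ * u₂) * (u₁ * u₂) = 1 := by
        obtain ⟨g, hg⟩ := h₁₂
        rw [← hg]
        calc g * b * g⁻¹ * (g * b * g⁻¹) = g * (b * b) * g⁻¹ := by group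
          _ = 1 := by rw [h1]; group
      have h0 : u₁ * u₁ = 1 := by
        obtain ⟨g, hg⟩ := h₁
        rw [← hg]
        calc g * b * g⁻¹ * (g * b * g⁻¹) = g * (b * b) * g⁻¹ := by group
          _ = 1 := by rw [h1]; group
      exact (commute_of_sq h0 h2 h3).symm
    have ht : ⁅A, B⁆ ∈ σ.ker := by
      rw [MonoidHom.mem_ker, map_commutatorElement, commutatorElement_eq_one_iff_mul_comm, hab]
    have hconj : A * B * A⁻¹ = ⁅A, B⁆ * B := by rw [commutatorElement_def]; group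
    have ht2 : ⁅A, B⁆ * ⁅A, B⁆ = 1 := by
      have h1 : A * A * B * (A * A)⁻¹ = B := by rw [← hc _ hA2 B, mul_inv_cancel_right]
      have h2 : A * A * B * (A * A)⁻¹ = ⁅A, B⁆ * ⁅A, B⁆ * B := by
        calc A * A * B * (A * A)⁻¹ = A * (A * B * A⁻¹) * A⁻¹ := by group
          _ = ⁅A, B⁆ * (A * B * A⁻¹) := by rw [hconj, ← mul_assoc A, hc _ ht A]; group
          _ = _ := by rw [hconj, ← mul_assoc]
      rw [h1] at h2
      exact mul_eq_right.1 h2.symm
    have e : A * B * (A * B) = ⁅A, B⁆⁻¹ * ((A * A) * (B * B)) := by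
      have hBA : B * A = ⁅A, B⁆⁻¹ * (A * B) := by rw [commutatorElement_def]; group
      calc A * B * (A * B) = A * (B * A) * B := by simp [mul_assoc]
        _ = A * (⁅A, B⁆⁻¹ * (A * B)) * B := by rw [hBA]
        _ = (A * ⁅A, B⁆⁻¹) * (A * B) * B := by simp [mul_assoc]
        _ = (⁅A, B⁆⁻¹ * A) * (A * B) * B := by rw [hc _ (inv_mem ht) A]
        _ = _ := by simp [mul_assoc]
    rw [ea, eb, ec, inv_eq_of_mul_eq_one_right ht2] at e
    have e' : w * (kc * kc) = (⟨_, ht⟩ : σ.ker) * ((w * (ka * ka)) * (w * (kb * kb))) := Subtype.ext e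
    letI : CommGroup σ.ker := { (inferInstance : Group σ.ker) with mul_comm := hcomm }
    exact ⟨kc * (ka * kb)⁻¹, abel_key e' (Subtype.ext ht2)⟩
  have hx : ∀ x : σ.ker, ∃ k i, x = k * k * w ^ (i : ℤ) := by
    intro x
    have hxN : x ∈ N := step1 ▸ Subgroup.mem_top x
    letI : CommGroup σ.ker := { (inferInstance : Group σ.ker) with mul_comm := hcomm }
    obtain ⟨a, ⟨k, rfl⟩, b, ⟨i, rfl⟩, rfl⟩ := Subgroup.mem_sup.1 hxN
    exact ⟨k, i, rfl⟩
  have hexp : ∀ x : σ.ker, x * x = 1 := by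
    letI : CommGroup σ.ker := { (inferInstance : Group σ.ker) with mul_comm := hcomm }
    obtain ⟨k0, hk0⟩ := hww
    have hsurj : ∀ y ∈ sqr.range, ∃ v ∈ sqr.range, sqr v = y := by
      rintro _ ⟨x, rfl⟩
      obtain ⟨k, i, rfl⟩ := hx x
      refine ⟨k * k * (k0 * k0) ^ i, mul_mem ⟨k, rfl⟩ (sqr.range.zpow_mem ⟨k0, rfl⟩ i), ?_⟩
      show k * k * (k0 * k0) ^ i * (k * k * (k0 * k0) ^ i) = k * k * w ^ i * (k * k * w ^ i)
      calc k * k * (k0 * k0) ^ i * (k * k * (k0 * k0) ^ i)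
          = (k * k) * (k * k) * ((k0 * k0) * (k0 * k0)) ^ i := by simp only [mul_zpow]; ac_rfl
        _ = (k * k) * (k * k) * (w * w) ^ i := by rw [hk0]
        _ = _ := by simp only [mul_zpow]; ac_rfl
    intro x
    by_contra hxx
    have hne : sqr.range ≠ ⊥ := fun h => hxx (Subgroup.mem_bot.1 (h ▸ ⟨x, rfl⟩ : x * x ∈ (⊥ : Subgroup σ.ker)))
    obtain ⟨q, hq, hqd⟩ := Nat.exists_prime_and_dvd (mt Subgroup.card_eq_one.1 hne)
    haveI := Fact.mk hq
    obtain ⟨⟨y, hy⟩, hyo⟩ := exists_prime_orderOf_dvd_card' q hqd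
    rw [← Subgroup.orderOf_coe] at hyo
    change orderOf y = _ at hyo
    have hq2 : q = 2 := ker_prime _ y.2 q hq (by rw [Subgroup.orderOf_coe]; exact hyo)
    subst hq2
    let f : sqr.range → sqr.range := fun v => ⟨sqr v, ⟨v, rfl⟩⟩
    have hf : Function.Surjective f := fun v => by
      obtain ⟨u, hu, huv⟩ := hsurj v v.2
      exact ⟨⟨u, hu⟩, Subtype.ext huv⟩
    have hinj := Finite.injective_iff_surjective.2 hf
    have h2 : y * y = 1 := by
      have := pow_orderOf_eq_one y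
      rwa [hyo, pow_two] at this
    have hy1 : (⟨y, hy⟩ : sqr.range) = 1 := hinj (Subtype.ext (show y * y = 1 * 1 by rw [h2, one_mul]))
    have hy2 : y = 1 := congrArg Subtype.val hy1
    rw [hy2, orderOf_one] at hyo
    exact absurd hyo (by norm_num)
  refine ⟨w, hexp w, fun x => ?_⟩
  obtain ⟨k, i, rfl⟩ := hx x
  rw [hexp, one_mul]
  rcases Int.even_or_odd i with ⟨j, rfl⟩ | ⟨j, rfl⟩
  · left; rw [← two_mul, zpow_mul, zpow_two, hexp, one_zpow]
  · right; rw [zpow_add, zpow_mul, zpow_two, hexp, one_zpow, one_mul, zpow_one]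

theorem five_sylow {G : Type v} [Group G] [Finite G] (hG : ∀ S : Sylow 5 G, Nat.card (S : Subgroup G) = 5 ^ 2)
    {u v : G} (hu : u ^ 5 = 1) (hv : v ^ 5 = 1) (huv : u * v = v * u) (hu1 : u ≠ 1)
    (hne : ∀ i < 5, v ≠ u ^ i) : ∃ S : Sylow 5 G, (S : Subgroup G) = Subgroup.closure {u, v} := by
  haveI : Fact (Nat.Prime 5) := ⟨by norm_num⟩
  set A := Subgroup.closure ({u, v} : Set G) with hA
  have hAc := Subgroup.isMulCommutative_closure (k := ({u, v} : Set G)) (by
    rintro a (rfl | rfl) b (rfl | rfl) <;> first | rfl | exact huv | exact huv.symm)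
  have hAp : IsPGroup 5 A := by
    rintro ⟨x, hx⟩
    refine ⟨1, Subtype.ext ?_⟩
    show x ^ (5 ^ 1) = 1
    rw [pow_one]
    induction hx using Subgroup.closure_induction with
    | mem a ha => rcases ha with rfl | rfl <;> assumption
    | one => exact one_pow 5
    | mul a b ha hb iha ihb =>
      rw [(show Commute a b from congrArg Subtype.val (hAc.is_comm.comm ⟨a, ha⟩ ⟨b, hb⟩)).mul_pow, iha, ihb, one_mul]
    | inv a ha iha => rw [inv_pow, iha, inv_one]
  obtain ⟨S, hS⟩ := hAp.exists_le_sylow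
  refine ⟨S, (Subgroup.eq_of_le_of_card_ge hS ?_).symm⟩
  rw [hG S]
  have hlt : Subgroup.zpowers u < A := by
    refine lt_of_le_of_ne (Subgroup.zpowers_le.2 (Subgroup.subset_closure (by simp))) fun e => ?_
    have hm : v ∈ Subgroup.zpowers u := e.symm ▸ Subgroup.subset_closure (by simp)
    obtain ⟨i, hi⟩ := mem_zpowers_iff_mem_range_orderOf.1 hm |> Finset.mem_image.1
    exact hne i (by have := hi.1; rw [orderOf_eq_prime hu hu1, Finset.mem_range] at this; exact this) hi.2.symm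
  have hc : Nat.card (Subgroup.zpowers u) < Nat.card A :=
    lt_of_le_of_ne (Subgroup.card_le_of_le hlt.le) fun e => hlt.ne (Subgroup.eq_of_le_of_card_ge hlt.le e.ge)
  rw [Nat.card_zpowers, orderOf_eq_prime hu hu1] at hc
  obtain ⟨a, ha⟩ := (IsPGroup.iff_card).1 hAp
  rw [ha] at hc ⊢
  refine Nat.pow_le_pow_right (by norm_num) ?_
  by_contra h
  have := Nat.pow_le_pow_right (n := 5) (by norm_num) (show a ≤ 1 by omega)
  omega

end Cfsg.Agent.FGS2.J2.SchurTwoClass
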