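import Cfsg.Agent.FGS2.J2.Elements

/-! Data for the outer automorphism. -/

set_option autoImplicit false

namespace Cfsg.Agent.FGS2.J2

/-- The bits of a matrix normalising the group. -/
def autBits : ℕ := 22280780454646501525061207303986820327616529

/-- The bits of its inverse. -/
def autBitsInv : ℕ := 22280780454646501525061207303986820327616529

/-- The images of the four generators. -/
def autImg : List (ℕ × ℕ) := [(1, 0), (19, 48), (141, 150), (176, 1030)]

/-- A square root of the base reflection. -/
def autRoot : ℕ := 6

/-- The generators as words in the reflections at four positions. -/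
def autWord : List (List ℕ) := [[2, 0, 2], [0, 1, 0, 1, 0], [1, 0, 2, 1, 3, 1, 0, 2, 3, 0, 2, 1, 3, 2, 0, 1], [0, 1, 3, 2, 1, 3, 1, 2, 3, 0]]

/-- Relations for the third reflection. -/
def autRelB : List (List ℕ × ℕ) := [([0, 1, 2], 10), ([0, 1, 0, 1, 2], 10), ([0, 2], 3), ([1, 2], 3)]

/-- Relations for the fourth reflection. -/
def autRelC : List (List ℕ × ℕ) := [([0, 3], 2), ([1, 2, 3], 8), ([2, 3], 3)]

/-- Witnesses for the third reflection. -/
def autWit : List (ℕ × ℕ) :=
  [(1, 0), (5, 1526), (8, 788), (17, 459), (18, 773), (20, 45), (40, 1056), (44, 998), (48, 698), (50, 843), 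
    (54, 1660), (55, 1541), (67, 1495), (74, 1037), (77, 512), (97, 25), (100, 1589), (104, 64), (106, 1004), (115, 916), 
    (131, 233), (140, 1203), (148, 79), (150, 812), (152, 695), (153, 69), (161, 196), (172, 1906), (176, 97), (177, 3), 
    (188, 1301), (190, 353), (192, 881), (201, 1580), (209, 1706), (211, 719), (215, 281), (216, 1266), (220, 254), (221, 971), 
    (224, 20), (236, 375), (237, 859), (239, 1902), (243, 1917), (247, 129), (254, 1886), (258, 1125), (262, 1570), (266, 967), 
    (271, 289), (276, 1416), (283, 655), (284, 15), (297, 223), (300, 1682), (302, 603), (303, 102), (306, 250), (308, 725)]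

end Cfsg.Agent.FGS2.J2
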