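import Cfsg.Agent.FGS2.J2.Elements
import Cfsg.Agent.FGS2.J2.SpecDefs
import Cfsg.Agent.FGS2.J2.OuterData

/-! Checks for the automorphism group of the Hall–Janko group. -/

set_option autoImplicit false
set_option maxRecDepth 100000

namespace Cfsg.Agent.FGS2.J2

/-- The entries of the matrix normalising the group. -/
def autEnt (k : ℕ) : ℕ := if autBits.testBit k then 1 else 0

/-- The matrix normalising the group. -/
def autX : ℕ := pack 144 autEnt

/-- The positions of four reflections that generate. -/
def autPos : List ℕ := [0, 2, 1, 3]

/-- The code of a word in reflections at given positions. -/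
def posWord (p : List ℕ) (w : List ℕ) : ℕ := w.foldr (fun a s => mmul (tc (p.getD a 0)) s) idCode

/-- Relations satisfied at given positions. -/
def relOK (p : List ℕ) (rels : List (List ℕ × ℕ)) : Bool :=
  rels.all fun r => pw (posWord p r.1) r.2 == idCode

/-- Whether an element is not of order four or squares to a reflection. -/
def sqTest (y : ℕ) : Bool :=
  y == idCode || !(mmul y y == idCode) || (List.range 315).any fun n => y == tc n

/-- The square test of one representative. -/
def sqOK (j m : ℕ) : Bool :=
  sqTest (mmul (el (subR j) m) (el (subR j) m))

theorem autX_sq : mmul autX autX = idCode := by decide +kernel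

theorem autX_id : mmul autX idCode = mmul idCode autX := by decide +kernel

theorem autX_gen : ((List.range 4).all fun a =>
    decide ((autImg.getD a (0, 0)).1 < 315) && decide ((autImg.getD a (0, 0)).2 < 1920) &&
      mmul autX (kAt a) == mmul (el (autImg.getD a (0, 0)).1 (autImg.getD a (0, 0)).2) autX) = true := by decide +kernel

theorem autX_pos : mmul autX (tc 0) = mmul (tc 0) autX ∧ mmul autX (tc 2) = mmul (tc 19) autX := by decide +kernel

theorem aut_outer : ((List.range 1920).all fun m => !(mmul (hAt m) (tc 2) == mmul (tc 19) (hAt m))) = true := by
  decide +kernel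

theorem autRoot_ok : autRoot < 1920 ∧ mmul (hAt autRoot) (hAt autRoot) = tc 0 := by decide +kernel

theorem autWord_ok : ((List.range 4).all fun a =>
    (autWord.getD a []).all (fun b => decide (b < 4)) && posWord autPos (autWord.getD a []) == kAt a) = true := by
  decide +kernel

theorem autRel_self : relOK autPos autRelB = true ∧ relOK autPos autRelC = true := by decide +kernel

theorem aut_second : ((List.range 315).all fun n => decide (n = 0) ||
    !(pw (posWord [0, n] [0, 1]) 5 == idCode) || decide (subJ n = 2) || decide (subJ n = 5)) = true := by
  decide +kernel

theorem aut_third : ((List.range 315).all fun n => !(relOK [0, 2, n, 0] autRelB) ||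
    autWit.any fun w => decide (w.1 = n) && decide (w.2 < 1920) &&
      mmul (hAt w.2) (tc 2) == mmul (tc 2) (hAt w.2) && mmul (hAt w.2) (tc 1) == mmul (tc n) (hAt w.2)) = true := by
  decide +kernel

theorem aut_fourth : ((List.range 315).all fun n => !(relOK [0, 2, 1, n] autRelC) || decide (n = 3)) = true := by
  decide +kernel

theorem aut_second_self : pw (posWord [0, 2] [0, 1]) 5 = idCode := by decide +kernel

theorem tc_zero_sq : mmul (tc 0) (tc 0) = idCode := by decide +kernel

theorem tc_zero_ne : tc 0 ≠ idCode := by decide +kernel

theorem autRel_slots : (autRelB.all fun r => r.1.all fun a => decide (a < 3)) = true ∧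
    (autRelC.all fun r => r.1.all fun a => decide (a < 4)) = true := by decide +kernel

theorem sq0 : (List.range 1920).all (sqOK 0) = true := by decide +kernel

theorem sq1 : (List.range 1920).all (sqOK 1) = true := by decide +kernel

theorem sq2 : (List.range 1920).all (sqOK 2) = true := by decide +kernel

theorem sq3 : (List.range 1920).all (sqOK 3) = true := by decide +kernel

theorem sq4 : (List.range 1920).all (sqOK 4) = true := by decide +kernel

theorem sq5 : (List.range 1920).all (sqOK 5) = true := by decide +kernel

end Cfsg.Agent.FGS2.J2
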