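import Cfsg.Agent.FGS2.J2.Vec
import Cfsg.Agent.FGS2.J2.ShortData

/-! Checkers for the tables of short icosians. -/

set_option autoImplicit false
set_option maxRecDepth 200000

namespace Cfsg.Agent.FGS2.J2

open Ico

/-- Decoding. -/
def dec (n : ℕ) : Ico :=
  ⟨(n % 32 : ℕ) - 16, (n / 2 ^ 5 % 32 : ℕ) - 16, (n / 2 ^ 10 % 32 : ℕ) - 16, (n / 2 ^ 15 % 32 : ℕ) - 16,
    (n / 2 ^ 20 % 32 : ℕ) - 16, (n / 2 ^ 25 % 32 : ℕ) - 16, (n / 2 ^ 30 % 32 : ℕ) - 16, (n / 2 ^ 35 % 32 : ℕ) - 16⟩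

/-- The code of zero. -/
def zeroCode : ℕ := 567489872400

/-- Decoding of triples. -/
def decV (n : ℕ) : V3 := (dec n, dec (n / 2 ^ 40), dec (n / 2 ^ 80))

/-- All buckets. -/
def bucketBlocks : List (List (List ℕ)) :=
  [bucket0, bucket1, bucket2, bucket3, bucket4, bucket5, bucket6, bucket7, bucket8, bucket9, bucket10, bucket11, bucket12, bucket13, bucket14, bucket15]

/-- The bucket of a parity class. -/
def bucket (k : ℕ) : List ℕ := (bucketBlocks.getD (k / 16) []).getD (k % 16) []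

/-- The representatives. -/
def reps : List Ico := repCodes.map dec

/-- The codes of the 315 vectors. -/
def lineCodes : List ℕ := lines0 ++ lines1 ++ lines2 ++ lines3 ++ lines4

/-- The 315 vectors. -/
def lines : List V3 := lineCodes.map decV

/-- One bit. -/
def bit (n : Int) : ℕ := if n % 2 = 0 then 0 else 1

/-- The parity class. -/
def key (P : Ico) : ℕ :=
  bit P.a0 + 2 * bit P.a1 + 4 * bit P.b0 + 8 * bit P.b1 + 16 * bit P.e0 + 32 * bit P.e1 + 64 * bit P.f0 +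
    128 * bit P.f1

/-- A representative of a parity class. -/
def parI (k : ℕ) : Ico :=
  ⟨(k % 2 : ℕ), (k / 2 % 2 : ℕ), (k / 4 % 2 : ℕ), (k / 8 % 2 : ℕ), (k / 16 % 2 : ℕ), (k / 32 % 2 : ℕ),
    (k / 64 % 2 : ℕ), (k / 128 % 2 : ℕ)⟩

/-- A linear form of a multiplication. -/
def giMul (P : Ico) : Ico := ⟨-(P.b0), -(P.b1), P.a0, P.a1, -(P.a0) - P.a1 - P.f0, -(P.a0) - 2 * P.a1 - P.f1, P.b0 + P.b1 + P.e0, P.b0 + 2 * P.b1 + P.e1⟩

theorem giMul_eq (P : Ico) : mul gi P = giMul P := by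
  simp only [mul, giMul, gi, gg, hb, hh, Ico.mk.injEq]
  omega

/-- A linear form of a multiplication. -/
def ggMul (P : Ico) : Ico := ⟨-(P.a1) - P.b0 - P.f1, -(P.a0) - P.a1 - P.b1 - P.f0 - P.f1, -(P.a1) - P.b1 - P.e1, -(P.a0) - P.a1 - P.b0 - P.b1 - P.e0 - P.e1, P.a0 + 2 * P.a1 + P.b0 + 2 * P.b1 + P.e0 + P.e1 + P.f1, 2 * P.a0 + 3 * P.a1 + 2 * P.b0 + 3 * P.b1 + P.e0 + 2 * P.e1 + P.f0 + P.f1, P.a0 + 2 * P.a1 + P.b0 + P.b1 + P.e0 + P.f0 + P.f1, 2 * P.a0 + 3 * P.a1 + P.b0 + 2 * P.b1 + P.e1 + P.f0 + 2 * P.f1⟩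

theorem ggMul_eq (P : Ico) : mul gg P = ggMul P := by
  simp only [mul, ggMul, gi, gg, hb, hh, Ico.mk.injEq]
  omega

/-- A linear form of a multiplication. -/
def hbMul (P : Ico) : Ico := ⟨P.a0 + P.b0 + P.b1 + P.e0 + P.f0, P.a1 + P.b0 + 2 * P.b1 + P.e1 + P.f1, -(P.b1) - P.e0 + P.f0, -(P.b0) - P.b1 - P.e1 + P.f1, -(P.a0) - P.a1 - P.b1 + P.e0 - P.e1 - P.f0 - P.f1, -(P.a0) - 2 * P.a1 - P.b0 - P.b1 - P.e0 - P.f0 - 2 * P.f1, -(P.a0) - P.a1 - P.b0 - P.b1 - 2 * P.f1, -(P.a0) - 2 * P.a1 - P.b0 - 2 * P.b1 - 2 * P.f0 - 2 * P.f1⟩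

theorem hbMul_eq (P : Ico) : mul P hb = hbMul P := by
  simp only [mul, hbMul, gi, gg, hb, hh, Ico.mk.injEq]
  omega

/-- A linear form of a multiplication. -/
def hhMul (P : Ico) : Ico := ⟨-(2 * P.a1) - P.b0 - P.b1 - P.e0 - P.f0, -(2 * P.a0) - 2 * P.a1 - P.b0 - 2 * P.b1 - P.e1 - P.f1, P.b0 - P.b1 + P.e0 - P.f0, -(P.b0) + P.e1 - P.f1, P.a0 + P.a1 + P.b1 - P.e1 + P.f0 + P.f1, P.a0 + 2 * P.a1 + P.b0 + P.b1 - P.e0 - P.e1 + P.f0 + 2 * P.f1, P.a0 + P.a1 + P.b0 + P.b1 + P.f0, P.a0 + 2 * P.a1 + P.b0 + 2 * P.b1 + P.f1⟩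

theorem hhMul_eq (P : Ico) : mul P hh = hhMul P := by
  simp only [mul, hhMul, gi, gg, hb, hh, Ico.mk.injEq]
  omega

/-- The fast first congruence. -/
def inIhF (P : Ico) : Bool := even8 (hbMul P)

/-- The fast second congruence. -/
def inIhbF (P : Ico) : Bool := even8 (hhMul P)

theorem inIhF_eq (P : Ico) : inIhF P = inIh P := by rw [inIhF, inIh, hbMul_eq]

theorem inIhbF_eq (P : Ico) : inIhbF P = inIhb P := by rw [inIhbF, inIhb, hhMul_eq]

/-- Small coordinates. -/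
def aList : List (Int × Int) :=
  [(-4, 0), (-3, 0), (-3, 1), (-2, -1), (-2, 0), (-2, 1), (-2, 2), (-2, 3), (-1, -1), (-1, 0), (-1, 1), (-1, 2), (-1, 3), (0, -2), (0, -1), (0, 0), (0, 1), (0, 2), (1, -3), (1, -2), (1, -1), (1, 0), (1, 1), (2, -3), (2, -2), (2, -1), (2, 0), (2, 1), (3, -1), (3, 0), (4, 0)]

/-- The coordinates from doubled components. -/
def ofC (a b c d : Int × Int) : Ico :=
  ⟨a.1, a.2, b.1, b.2, (c.1 - (a.2 + b.1 + b.2)) / 2, (c.2 - (a.1 + a.2 + b.1 + 2 * b.2)) / 2,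
    (d.1 - (a.1 + a.2 + b.2)) / 2, (d.2 - (a.1 + 2 * a.2 + b.1 + b.2)) / 2⟩

/-- Completeness of the buckets. -/
def checkShort (l : List (Int × Int)) : Bool :=
  l.all fun a => aList.all fun b =>
    if okle 16 (padd (psq a) (psq b)) then
      aList.all fun c =>
        if ev (c.1 - (a.2 + b.1 + b.2)) && ev (c.2 - (a.1 + a.2 + b.1 + 2 * b.2)) then
          if okle 16 (padd (padd (psq a) (psq b)) (psq c)) then
            aList.all fun d =>
              if ev (d.1 - (a.1 + a.2 + b.2)) && ev (d.2 - (a.1 + 2 * a.2 + b.1 + b.2)) then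
                if okle 16 (padd (padd (psq a) (psq b)) (padd (psq c) (psq d))) then
                  (bucket (key (ofC a b c d))).any fun n => dec n == ofC a b c d
                else true
              else true
          else true
        else true
    else true

/-- The stored norm. -/
def nuOf (n : ℕ) : Int × Int := nuTab.getD (n / 2 ^ 40 % 16) (0, 0)

/-- The stored kind. -/
def kindOf (n : ℕ) : ℕ := n / 2 ^ 44 % 4

/-- The stored depth. -/
def depthOf (n : ℕ) : ℕ := n / 2 ^ 46 % 256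

/-- The stored position. -/
def posOf (n : ℕ) : ℕ := n / 2 ^ 54

/-- One step towards a representative. -/
def stepOK (P : Ico) (n : ℕ) : Bool :=
  match (bucket (key P))[posOf n]? with
  | none => false
  | some t => dec t == P && decide (depthOf t < depthOf n)

/-- The data of one entry. -/
def entryOK (n : ℕ) : Bool :=
  nrm (dec n) == nuOf n &&
    match kindOf n with
    | 0 => dec n == zero
    | 1 => decide (repCodes[posOf n]? = some (n % 2 ^ 40))
    | 2 => stepOK (giMul (dec n)) n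
    | _ => stepOK (ggMul (dec n)) n

/-- The check of a block. -/
def checkBlock (b : List (List ℕ)) : Bool := b.all fun l => l.all entryOK

/-- The first coordinates. -/
def xCode (t : ℕ) : ℕ := (zeroCode :: repCodes).getD t zeroCode

/-- The last test for one triple. -/
def final (t : ℕ) (nx : ℕ) (ny nz : ℕ) (s : Int × Int) : Bool :=
  if okle 4 s then
    if decide (t = 0) && (ny % 2 ^ 40 == zeroCode) && !(repCodes.contains (nz % 2 ^ 40)) then
      true
    else s == (4, 0) && lineCodes.contains (nx + 2 ^ 40 * (ny % 2 ^ 40) + 2 ^ 80 * (nz % 2 ^ 40))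
  else true

/-- The search. -/
def checkLoop (t : ℕ) : Bool :=
  (nbrTab.getD t []).all fun ky => (bucket ky).all fun ny =>
    if okle 4 (padd (nrm (dec (xCode t))) (nuOf ny)) &&
        (!(t == 0) || ny % 2 ^ 40 == zeroCode || repCodes.contains (ny % 2 ^ 40)) then
      (nbrTab.getD t []).all fun kz =>
        if inIhF (sub (parI ky) (parI kz)) &&
            inIhbF (add (add (parI (key (dec (xCode t)))) (parI ky)) (parI kz)) then
          (bucket kz).all fun nz =>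
            final t (xCode t) ny nz (padd (padd (nrm (dec (xCode t))) (nuOf ny)) (nuOf nz))
        else true
    else true

end Cfsg.Agent.FGS2.J2
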