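import Mathlib
import Cfsg.Prelude.Def_Spor_J2

/-!
Exact arithmetic in the icosian ring: eight integer coordinates, with the product written out.
-/

set_option autoImplicit false
set_option maxRecDepth 20000

namespace Cfsg.Agent.FGS2.J2

open Quaternion
open Cfsg.Spor (tau sig)

/-- Eight integer coordinates. -/
structure Ico where
  a0 : Int
  a1 : Int
  b0 : Int
  b1 : Int
  e0 : Int
  e1 : Int
  f0 : Int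
  f1 : Int
  deriving DecidableEq

/-- The real number `x + y tau`. -/
noncomputable def zt (x y : Int) : ℝ := (x : ℝ) + y * tau

namespace Ico

/-- The quaternion of coordinates. -/
noncomputable def val (P : Ico) : ℍ[ℝ] :=
  ⟨zt P.a0 P.a1 / 2, zt P.b0 P.b1 / 2,
    zt (P.a1 + P.b0 + P.b1 + 2 * P.e0) (P.a0 + P.a1 + P.b0 + 2 * P.b1 + 2 * P.e1) / 2,
    zt (P.a0 + P.a1 + P.b1 + 2 * P.f0) (P.a0 + 2 * P.a1 + P.b0 + P.b1 + 2 * P.f1) / 2⟩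

theorem val_re (P : Ico) : (val P).re = zt P.a0 P.a1 / 2 := rfl

theorem val_imI (P : Ico) : (val P).imI = zt P.b0 P.b1 / 2 := rfl

theorem val_imJ (P : Ico) : (val P).imJ =
    zt (P.a1 + P.b0 + P.b1 + 2 * P.e0) (P.a0 + P.a1 + P.b0 + 2 * P.b1 + 2 * P.e1) / 2 := rfl

theorem val_imK (P : Ico) : (val P).imK =
    zt (P.a0 + P.a1 + P.b1 + 2 * P.f0) (P.a0 + 2 * P.a1 + P.b0 + P.b1 + 2 * P.f1) / 2 := rfl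

theorem icoH_re : Spor.icoH.re = -(Real.sqrt 5) / 2 := rfl

theorem icoH_imI : Spor.icoH.imI = 1 / 2 := rfl

theorem icoH_imJ : Spor.icoH.imJ = 1 / 2 := rfl

theorem icoH_imK : Spor.icoH.imK = 1 / 2 := rfl

theorem qI_re : Spor.qI.re = 0 := rfl

theorem qI_imI : Spor.qI.imI = 1 := rfl

theorem qI_imJ : Spor.qI.imJ = 0 := rfl

theorem qI_imK : Spor.qI.imK = 0 := rfl

/-- Sum. -/
def add (P Q : Ico) : Ico := ⟨P.a0 + Q.a0, P.a1 + Q.a1, P.b0 + Q.b0, P.b1 + Q.b1, P.e0 + Q.e0, P.e1 + Q.e1, P.f0 + Q.f0, P.f1 + Q.f1⟩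

/-- Difference. -/
def sub (P Q : Ico) : Ico := ⟨P.a0 - Q.a0, P.a1 - Q.a1, P.b0 - Q.b0, P.b1 - Q.b1, P.e0 - Q.e0, P.e1 - Q.e1, P.f0 - Q.f0, P.f1 - Q.f1⟩

/-- Integer multiple. -/
def isc (c : Int) (P : Ico) : Ico := ⟨c * P.a0, c * P.a1, c * P.b0, c * P.b1, c * P.e0, c * P.e1, c * P.f0, c * P.f1⟩

/-- Product. -/
def mul (P Q : Ico) : Ico := ⟨
  -((P.a0 * Q.a0)) - 2 * (P.a0 * Q.a1) - (P.a0 * Q.b0) - 2 * (P.a0 * Q.b1) - (P.a0 * Q.e1) - (P.a0 * Q.f0) - (P.a0 * Q.f1) - 2 * (P.a1 * Q.a0) - 3 * (P.a1 * Q.a1) - 2 * (P.a1 * Q.b0) - 3 * (P.a1 * Q.b1) - (P.a1 * Q.e0) - (P.a1 * Q.e1) - (P.a1 * Q.f0) - 2 * (P.a1 * Q.f1) - (P.b0 * Q.a0) - 2 * (P.b0 * Q.a1) - 2 * (P.b0 * Q.b0) - 2 * (P.b0 * Q.b1) - (P.b0 * Q.e0) - (P.b0 * Q.e1) - (P.b0 * Q.f1) - 2 * (P.b1 * Q.a0) - 3 * (P.b1 * Q.a1) - 2 * (P.b1 * Q.b0) - 4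 * (P.b1 * Q.b1) - (P.b1 * Q.e0) - 2 * (P.b1 * Q.e1) - (P.b1 * Q.f0) - (P.b1 * Q.f1) - (P.e0 * Q.a1) - (P.e0 * Q.b0) - (P.e0 * Q.b1) - 2 * (P.e0 * Q.e0) - (P.e1 * Q.a0) - (P.e1 * Q.a1) - (P.e1 * Q.b0) - 2 * (P.e1 * Q.b1) - 2 * (P.e1 * Q.e1) - (P.f0 * Q.a0) - (P.f0 * Q.a1) - (P.f0 * Q.b1) - 2 * (P.f0 * Q.f0) - (P.f1 * Q.a0) - 2 * (P.f1 * Q.a1) - (P.f1 * Q.b0) - (P.f1 * Q.b1) - 2 * (P.f1 * Q.f1),
  -(2 * (P.a0 * Q.a0)) - 3 * (P.a0 * Q.a1) - 2 * (P.a0 * Q.b0) - 3 * (P.a0 * Q.b1) - (P.a0 * Q.e0) - (P.a0 * Q.e1) - (P.a0 * Q.f0) - 2 * (P.a0 * Q.f1) - 3 * (P.a1 * Q.a0) - 5 * (P.a1 * Q.a1) - 3 * (P.a1 * Q.b0) - 5 * (P.a1 * Q.b1) - (P.a1 * Q.e0) - 2 * (P.a1 * Q.e1) - 2 * (P.a1 * Q.f0) - 3 * (P.a1 * Q.f1) - 2 * (P.b0 * Q.a0) - 3 * (P.b0 * Q.a1) - 2 * (P.b0 * Q.b0) - 4 * (P.b0 * Q.b1) - (P.b0 * Q.e0) - 2 *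 (P.b0 * Q.e1) - (P.b0 * Q.f0) - (P.b0 * Q.f1) - 3 * (P.b1 * Q.a0) - 5 * (P.b1 * Q.a1) - 4 * (P.b1 * Q.b0) - 6 * (P.b1 * Q.b1) - 2 * (P.b1 * Q.e0) - 3 * (P.b1 * Q.e1) - (P.b1 * Q.f0) - 2 * (P.b1 * Q.f1) - (P.e0 * Q.a0) - (P.e0 * Q.a1) - (P.e0 * Q.b0) - 2 * (P.e0 * Q.b1) - 2 * (P.e0 * Q.e1) - (P.e1 * Q.a0) - 2 * (P.e1 * Q.a1) - 2 * (P.e1 * Q.b0) - 3 * (P.e1 * Q.b1) - 2 * (P.e1 * Q.e0) - 2 * (P.e1 * Q.e1) - (P.f0 * Q.a0) - 2 * (P.f0 * Q.a1) - (P.f0 * Q.b0) - (P.f0 * Q.b1) - 2 * (P.f0 * Q.f1) - 2 * (P.f1 * Q.a0) - 3 * (P.f1 * Q.a1) - (P.f1 * Q.b0) - 2 * (P.f1 * Q.b1) - 2 * (P.f1 * Q.f0) - 2 * (P.f1 * Q.f1),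
  -((P.a0 * Q.b1)) - (P.a0 * Q.e0) - (P.a0 * Q.e1) + (P.a0 * Q.f1) - (P.a1 * Q.b0) - (P.a1 * Q.b1) - (P.a1 * Q.e0) - 2 * (P.a1 * Q.e1) + (P.a1 * Q.f0) + (P.a1 * Q.f1) + (P.b0 * Q.a0) + (P.b0 * Q.a1) - (P.b0 * Q.e1) + (P.b0 * Q.f0) + (P.b0 * Q.f1) + (P.b1 * Q.a0) + 2 * (P.b1 * Q.a1) - (P.b1 * Q.e0) - (P.b1 * Q.e1) + (P.b1 * Q.f0) + 2 * (P.b1 * Q.f1) + (P.e0 * Q.a0) + (P.e0 * Q.a1) + (P.e0 * Q.b1) + 2 * (P.e0 * Q.f0) + (P.e1 * Q.a0) + 2 * (P.e1 * Q.a1) + (P.e1 * Q.b0) + (P.e1 * Q.b1) + 2 * (P.e1 * Q.f1) - (P.f0 * Q.a1) - (P.f0 * Q.b0) - (P.f0 * Q.b1) - 2 * (P.f0 * Q.e0) - (P.f1 * Q.a0) - (P.f1 * Q.a1) - (P.f1 * Q.b0) - 2 * (P.f1 * Q.b1) - 2 * (P.f1 * Q.e1),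
  -((P.a0 * Q.b0)) - (P.a0 * Q.b1) - (P.a0 * Q.e0) - 2 * (P.a0 * Q.e1) + (P.a0 * Q.f0) + (P.a0 * Q.f1) - (P.a1 * Q.b0) - 2 * (P.a1 * Q.b1) - 2 * (P.a1 * Q.e0) - 3 * (P.a1 * Q.e1) + (P.a1 * Q.f0) + 2 * (P.a1 * Q.f1) + (P.b0 * Q.a0) + 2 * (P.b0 * Q.a1) - (P.b0 * Q.e0) - (P.b0 * Q.e1) + (P.b0 * Q.f0) + 2 * (P.b0 * Q.f1) + 2 * (P.b1 * Q.a0) + 3 * (P.b1 * Q.a1) - (P.b1 * Q.e0) - 2 * (P.b1 * Q.e1) + 2 * (P.b1 * Q.f0) + 3 * (P.b1 * Q.f1) + (P.e0 * Q.a0) + 2 * (P.e0 * Q.a1) + (P.e0 * Q.b0) + (P.e0 * Q.b1) + 2 * (P.e0 * Q.f1) + 2 * (P.e1 * Q.a0) + 3 * (P.e1 * Q.a1) + (P.e1 * Q.b0) + 2 * (P.e1 * Q.b1) + 2 * (P.e1 * Q.f0) + 2 * (P.e1 * Q.f1) - (P.f0 * Q.a0) - (P.f0 * Q.a1) - (P.f0 * Q.b0) - 2 * (P.f0 * Q.b1) - 2 * (P.f0 * Q.e1) - (P.f1 * Q.a0) - 2 * (P.f1 * Q.a1) - 2 * (P.f1 * Q.b0) - 3 * (P.f1 * Q.b1) -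 2 * (P.f1 * Q.e0) - 2 * (P.f1 * Q.e1),
  (P.a0 * Q.a0) + 2 * (P.a0 * Q.a1) + 2 * (P.a0 * Q.b0) + 3 * (P.a0 * Q.b1) + 2 * (P.a0 * Q.e0) + 2 * (P.a0 * Q.e1) + 2 * (P.a1 * Q.a0) + 3 * (P.a1 * Q.a1) + 3 * (P.a1 * Q.b0) + 5 * (P.a1 * Q.b1) + 2 * (P.a1 * Q.e0) + 4 * (P.a1 * Q.e1) + (P.b0 * Q.b0) + 2 * (P.b0 * Q.b1) + (P.b0 * Q.e0) + 2 * (P.b0 * Q.e1) - (P.b0 * Q.f0) - (P.b0 * Q.f1) + 2 * (P.b1 * Q.b0) + 3 * (P.b1 * Q.b1) + 2 * (P.b1 * Q.e0) + 3 * (P.b1 * Q.e1) - (P.b1 * Q.f0) - 2 * (P.b1 * Q.f1) - (P.e0 * Q.a1) + (P.e0 * Q.e1) - (P.e0 * Q.f0) - (P.e0 * Q.f1) - (P.e1 * Q.a0) - (P.e1 * Q.a1) + (P.e1 * Q.e0) + (P.e1 * Q.e1) - (P.e1 * Q.f0) - 2 * (P.e1 * Q.f1) + (P.f0 * Q.a0) + 2 * (P.f0 * Q.a1) + 2 * (P.f0 * Q.b0) + 2 * (P.f0 * Q.b1) + (P.f0 * Q.e0) + (P.f0 * Q.e1) + (P.f0 * Q.f1) + 2 * (P.f1 * Q.a0) +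 3 * (P.f1 * Q.a1) + 2 * (P.f1 * Q.b0) + 4 * (P.f1 * Q.b1) + (P.f1 * Q.e0) + 2 * (P.f1 * Q.e1) + (P.f1 * Q.f0) + (P.f1 * Q.f1),
  2 * (P.a0 * Q.a0) + 3 * (P.a0 * Q.a1) + 3 * (P.a0 * Q.b0) + 5 * (P.a0 * Q.b1) + 2 * (P.a0 * Q.e0) + 4 * (P.a0 * Q.e1) + 3 * (P.a1 * Q.a0) + 5 * (P.a1 * Q.a1) + 5 * (P.a1 * Q.b0) + 8 * (P.a1 * Q.b1) + 4 * (P.a1 * Q.e0) + 6 * (P.a1 * Q.e1) + 2 * (P.b0 * Q.b0) + 3 * (P.b0 * Q.b1) + 2 * (P.b0 * Q.e0) + 3 * (P.b0 * Q.e1) - (P.b0 * Q.f0) - 2 * (P.b0 * Q.f1) + 3 * (P.b1 * Q.b0) + 5 * (P.b1 * Q.b1) + 3 * (P.b1 * Q.e0) + 5 * (P.b1 * Q.e1) - 2 * (P.b1 * Q.f0) - 3 * (P.b1 * Q.f1) - (P.e0 * Q.a0) - (P.e0 * Q.a1) + (P.e0 * Q.e0) + (P.e0 * Q.e1) - (P.e0 * Q.f0) - 2 * (P.e0 * Q.f1) - (P.e1 * Q.a0) - 2 * (P.e1 * Q.a1) + (P.e1 * Q.e0) + 2 * (P.e1 * Q.e1) - 2 * (P.e1 * Q.f0) - 3 * (P.e1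 * Q.f1) + 2 * (P.f0 * Q.a0) + 3 * (P.f0 * Q.a1) + 2 * (P.f0 * Q.b0) + 4 * (P.f0 * Q.b1) + (P.f0 * Q.e0) + 2 * (P.f0 * Q.e1) + (P.f0 * Q.f0) + (P.f0 * Q.f1) + 3 * (P.f1 * Q.a0) + 5 * (P.f1 * Q.a1) + 4 * (P.f1 * Q.b0) + 6 * (P.f1 * Q.b1) + 2 * (P.f1 * Q.e0) + 3 * (P.f1 * Q.e1) + (P.f1 * Q.f0) + 2 * (P.f1 * Q.f1),
  2 * (P.a0 * Q.a0) + 3 * (P.a0 * Q.a1) + 2 * (P.a0 * Q.b0) + 3 * (P.a0 * Q.b1) + (P.a0 * Q.e0) + 2 * (P.a0 * Q.e1) + (P.a0 * Q.f0) + (P.a0 * Q.f1) + 3 * (P.a1 * Q.a0) + 5 * (P.a1 * Q.a1) + 3 * (P.a1 * Q.b0) + 5 * (P.a1 * Q.b1) + 2 * (P.a1 * Q.e0) + 3 * (P.a1 * Q.e1) + (P.a1 * Q.f0) + 2 * (P.a1 * Q.f1) + (P.b0 * Q.a0) + 2 * (P.b0 * Q.a1) + 2 * (P.b0 * Q.b0) + 3 * (P.b0 * Q.b1) + 2 * (P.b0 * Q.e0) + 2 * (P.b0 * Q.e1) + 2 * (P.b1 * Q.a0) + 3 * (P.b1 * Q.a1) + 3 * (P.b1 * Q.b0) + 5 * (P.b1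 * Q.b1) + 2 * (P.b1 * Q.e0) + 4 * (P.b1 * Q.e1) + (P.e0 * Q.b1) + (P.e0 * Q.e0) + (P.e0 * Q.e1) - (P.e0 * Q.f1) + (P.e1 * Q.b0) + (P.e1 * Q.b1) + (P.e1 * Q.e0) + 2 * (P.e1 * Q.e1) - (P.e1 * Q.f0) - (P.e1 * Q.f1) + 2 * (P.f0 * Q.a0) + 2 * (P.f0 * Q.a1) + (P.f0 * Q.b0) + 2 * (P.f0 * Q.b1) + (P.f0 * Q.e1) + (P.f0 * Q.f0) + (P.f0 * Q.f1) + 2 * (P.f1 * Q.a0) + 4 * (P.f1 * Q.a1) + 2 * (P.f1 * Q.b0) + 3 * (P.f1 * Q.b1) + (P.f1 * Q.e0) + (P.f1 * Q.e1) + (P.f1 * Q.f0) + 2 * (P.f1 * Q.f1),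
  3 * (P.a0 * Q.a0) + 5 * (P.a0 * Q.a1) + 3 * (P.a0 * Q.b0) + 5 * (P.a0 * Q.b1) + 2 * (P.a0 * Q.e0) + 3 * (P.a0 * Q.e1) + (P.a0 * Q.f0) + 2 * (P.a0 * Q.f1) + 5 * (P.a1 * Q.a0) + 8 * (P.a1 * Q.a1) + 5 * (P.a1 * Q.b0) + 8 * (P.a1 * Q.b1) + 3 * (P.a1 * Q.e0) + 5 * (P.a1 * Q.e1) + 2 * (P.a1 * Q.f0) + 3 * (P.a1 * Q.f1) + 2 * (P.b0 * Q.a0) + 3 * (P.b0 * Q.a1) + 3 * (P.b0 * Q.b0) + 5 * (P.b0 * Q.b1) + 2 * (P.b0 * Q.e0) + 4 * (P.b0 * Q.e1) + 3 * (P.b1 * Q.a0) + 5 * (P.b1 * Q.a1) + 5 * (P.b1 * Q.b0) + 8 * (P.b1 * Q.b1) + 4 * (P.b1 * Q.e0) + 6 * (P.b1 * Q.e1) + (P.e0 * Q.b0) + (P.e0 * Q.b1) + (P.e0 * Q.e0) + 2 * (P.e0 * Q.e1) - (P.e0 * Q.f0) - (P.e0 * Q.f1) + (P.e1 * Q.b0) + 2 * (P.e1 * Q.b1) + 2 * (P.e1 * Q.e0) + 3 * (P.e1 * Q.e1) - (P.e1 * Q.f0) - 2 * (P.e1 * Q.f1) + 2 * (P.f0 * Q.a0) + 4 * (P.f0 * Q.a1)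 + 2 * (P.f0 * Q.b0) + 3 * (P.f0 * Q.b1) + (P.f0 * Q.e0) + (P.f0 * Q.e1) + (P.f0 * Q.f0) + 2 * (P.f0 * Q.f1) + 4 * (P.f1 * Q.a0) + 6 * (P.f1 * Q.a1) + 3 * (P.f1 * Q.b0) + 5 * (P.f1 * Q.b1) + (P.f1 * Q.e0) + 2 * (P.f1 * Q.e1) + 2 * (P.f1 * Q.f0) + 3 * (P.f1 * Q.f1)⟩

/-- Conjugate. -/
def conj (P : Ico) : Ico := ⟨P.a0, P.a1, -(P.b0), -(P.b1), -(P.a1) - P.e0, -(P.a0) - P.a1 - P.e1, -(P.a0) - P.a1 - P.f0, -(P.a0) - 2 * P.a1 - P.f1⟩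

/-- The reduced norm, as a pair. -/
def nrm (P : Ico) : Int × Int := (
  (P.a0 * P.a0) + 2 * (P.a0 * P.a1) + (P.a0 * P.b0) + 2 * (P.a0 * P.b1) + (P.a0 * P.e1) + (P.a0 * P.f0) + (P.a0 * P.f1) + 2 * (P.a1 * P.a1) + 2 * (P.a1 * P.b0) + 3 * (P.a1 * P.b1) + (P.a1 * P.e0) + (P.a1 * P.e1) + (P.a1 * P.f0) + 2 * (P.a1 * P.f1) + (P.b0 * P.b0) + 2 * (P.b0 * P.b1) + (P.b0 * P.e0) + (P.b0 * P.e1) + (P.b0 * P.f1) + 2 * (P.b1 * P.b1) + (P.b1 * P.e0) + 2 * (P.b1 * P.e1) + (P.b1 * P.f0) + (P.b1 * P.f1) + (P.e0 * P.e0) + (P.e1 * P.e1) + (P.f0 * P.f0) + (P.f1 * P.f1),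
  (P.a0 * P.a0) + 4 * (P.a0 * P.a1) + 2 * (P.a0 * P.b0) + 3 * (P.a0 * P.b1) + (P.a0 * P.e0) + (P.a0 * P.e1) + (P.a0 * P.f0) + 2 * (P.a0 * P.f1) + 3 * (P.a1 * P.a1) + 3 * (P.a1 * P.b0) + 5 * (P.a1 * P.b1) + (P.a1 * P.e0) + 2 * (P.a1 * P.e1) + 2 * (P.a1 * P.f0) + 3 * (P.a1 * P.f1) + (P.b0 * P.b0) + 4 * (P.b0 * P.b1) + (P.b0 * P.e0) + 2 * (P.b0 * P.e1) + (P.b0 * P.f0) + (P.b0 * P.f1) + 3 * (P.b1 * P.b1) + 2 * (P.b1 * P.e0) + 3 * (P.b1 * P.e1) + (P.b1 * P.f0) + 2 * (P.b1 * P.f1) + 2 * (P.e0 * P.e1) + (P.e1 * P.e1) + 2 * (P.f0 * P.f1) + (P.f1 * P.f1))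

/-- Zero. -/
def zero : Ico := ⟨0, 0, 0, 0, 0, 0, 0, 0⟩

/-- One. -/
def one : Ico := ⟨2, 0, 0, 0, 0, -1, -1, -1⟩

/-- The element `h`. -/
def hh : Ico := ⟨1, -2, 1, 0, 1, 0, 1, 1⟩

/-- The conjugate of `h`. -/
def hb : Ico := ⟨1, -2, -1, 0, 1, 1, 0, 2⟩

theorem tau_sq : tau ^ 2 = tau + 1 := by
  have h : Real.sqrt 5 ^ 2 = 5 := Real.sq_sqrt (by norm_num)
  unfold tau
  linear_combination h / 4

theorem tau_irrational : Irrational tau := Real.goldenRatio_irrational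

theorem zt_inj {x y x' y' : Int} (h : zt x y = zt x' y') : x = x' ∧ y = y' := by
  have h' : ((y - y' : Int) : ℝ) * tau = ((x' - x : Int) : ℝ) := by
    push_cast
    unfold zt at h
    linarith
  by_cases hy : y - y' = 0
  · rw [hy] at h'
    simp only [Int.cast_zero, zero_mul] at h'
    have : x' - x = 0 := by exact_mod_cast h'.symm
    omega
  · exact absurd h' ((tau_irrational.intCast_mul hy).ne_int _)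

theorem cancel {x y : ℝ} (h : x / 2 = y / 2) : x = y := by linarith

theorem val_inj : Function.Injective val := by
  intro P Q h
  rw [Quaternion.ext_iff] at h
  simp only [val_re, val_imI, val_imJ, val_imK] at h
  obtain ⟨h1, h2, h3, h4⟩ := h
  obtain ⟨u1, u2⟩ := zt_inj (cancel h1)
  obtain ⟨u3, u4⟩ := zt_inj (cancel h2)
  obtain ⟨u5, u6⟩ := zt_inj (cancel h3)
  obtain ⟨u7, u8⟩ := zt_inj (cancel h4)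
  cases P; cases Q
  simp only [mk.injEq]
  simp only at u1 u2 u3 u4 u5 u6 u7 u8
  omega

theorem val_add (P Q : Ico) : val (add P Q) = val P + val Q := by
  ext <;> simp [val_re, val_imI, val_imJ, val_imK, add, zt] <;> ring

theorem val_sub (P Q : Ico) : val (sub P Q) = val P - val Q := by
  ext <;> simp [val_re, val_imI, val_imJ, val_imK, sub, zt] <;> ring

theorem val_isc (c : Int) (P : Ico) : val (isc c P) = (c : ℝ) • val P := by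
  ext <;> simp [val_re, val_imI, val_imJ, val_imK, isc, zt] <;> ring

theorem val_zero : val zero = 0 := by
  ext <;> simp [val_re, val_imI, val_imJ, val_imK, zero, zt]

theorem val_one : val one = 1 := by
  ext <;> simp [val_re, val_imI, val_imJ, val_imK, one, zt] <;> ring

theorem val_mul (P Q : Ico) : val (mul P Q) = val P * val Q := by
  ext <;> simp [val_re, val_imI, val_imJ, val_imK, mul, zt] <;> ring_nf <;> rw [tau_sq] <;> ring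

theorem val_conj (P : Ico) : val (conj P) = star (val P) := by
  ext <;> simp [val_re, val_imI, val_imJ, val_imK, conj, zt] <;> ring

theorem val_hh : val hh = Spor.icoH := by
  ext <;> simp [val_re, val_imI, val_imJ, val_imK, hh, zt, icoH_re, icoH_imI, icoH_imJ, icoH_imK, tau] <;> ring

theorem val_hb : val hb = star Spor.icoH := by
  ext <;> simp [val_re, val_imI, val_imJ, val_imK, hb, zt, icoH_re, icoH_imI, icoH_imJ, icoH_imK, tau] <;> ring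

theorem val_nrm (P : Ico) : val P * star (val P) = ((zt (nrm P).1 (nrm P).2 : ℝ) : ℍ[ℝ]) := by
  ext <;> simp [val_re, val_imI, val_imJ, val_imK, nrm, zt] <;> ring_nf <;> rw [tau_sq] <;> ring

/-- The second generator. -/
noncomputable abbrev gG : ℍ[ℝ] := ⟨1 / 2, sig / 2, 0, tau / 2⟩

theorem gG_re : gG.re = 1 / 2 := rfl

theorem gG_imI : gG.imI = sig / 2 := rfl

theorem gG_imJ : gG.imJ = 0 := rfl

theorem gG_imK : gG.imK = tau / 2 := rfl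

/-- The coordinates of the first generator. -/
def gi : Ico := ⟨0, 0, 2, 0, -1, -1, 0, -1⟩

/-- The coordinates of the second generator. -/
def gg : Ico := ⟨1, 0, 1, -1, 0, 0, 0, 0⟩

theorem val_gi : val gi = Spor.qI := by
  ext <;> simp [val_re, val_imI, val_imJ, val_imK, gi, zt, qI_re, qI_imI, qI_imJ, qI_imK] <;> ring

theorem val_gg : val gg = gG := by
  ext <;> simp [val_re, val_imI, val_imJ, val_imK, gg, zt, gG_re, gG_imI, gG_imJ, gG_imK, tau, sig] <;> ring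

theorem mul_mem {P Q R : Ico} (hP : val P ∈ Spor.icosians) (hQ : val Q ∈ Spor.icosians) (e : mul P Q = R) :
    val R ∈ Spor.icosians := by
  rw [← e, val_mul]; exact Subring.mul_mem _ hP hQ

theorem add_mem {P Q R : Ico} (hP : val P ∈ Spor.icosians) (hQ : val Q ∈ Spor.icosians) (e : add P Q = R) :
    val R ∈ Spor.icosians := by
  rw [← e, val_add]; exact Subring.add_mem _ hP hQ

theorem sub_mem {P Q R : Ico} (hP : val P ∈ Spor.icosians) (hQ : val Q ∈ Spor.icosians) (e : sub P Q = R) :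
    val R ∈ Spor.icosians := by
  rw [← e, val_sub]; exact Subring.sub_mem _ hP hQ

theorem gi_mem : val gi ∈ Spor.icosians := by rw [val_gi]; exact Subring.subset_closure (Or.inl rfl)

theorem gg_mem : val gg ∈ Spor.icosians := by rw [val_gg]; exact Subring.subset_closure (Or.inr rfl)

theorem step1_mem : val ⟨-1, 0, 1, -1, 0, 1, 1, 1⟩ ∈ Spor.icosians :=
  mul_mem gg_mem gg_mem (by decide +kernel)

theorem step2_mem : val ⟨-1, 1, -1, 0, 0, 1, 0, 0⟩ ∈ Spor.icosians :=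
  mul_mem step1_mem gi_mem (by decide +kernel)

theorem step3_mem : val ⟨0, 0, -1, 1, 0, 0, 0, 0⟩ ∈ Spor.icosians :=
  mul_mem step2_mem gg_mem (by decide +kernel)

theorem step4_mem : val ⟨1, 0, 0, 0, 0, 0, 0, 0⟩ ∈ Spor.icosians :=
  add_mem gg_mem step3_mem (by decide +kernel)

theorem basis0_mem : val ⟨1, 0, 0, 0, 0, 0, 0, 0⟩ ∈ Spor.icosians :=
  step4_mem

theorem step5_mem : val ⟨-2, 0, 0, 0, 0, 1, 1, 1⟩ ∈ Spor.icosians :=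
  mul_mem gi_mem gi_mem (by decide +kernel)

theorem step6_mem : val ⟨0, 0, -2, 0, 1, 1, 0, 1⟩ ∈ Spor.icosians :=
  mul_mem step5_mem gi_mem (by decide +kernel)

theorem step7_mem : val ⟨1, -1, -1, 0, 1, 1, 0, 1⟩ ∈ Spor.icosians :=
  mul_mem step6_mem gg_mem (by decide +kernel)

theorem step8_mem : val ⟨1, 0, 1, -1, 0, 0, 0, -1⟩ ∈ Spor.icosians :=
  mul_mem step7_mem gi_mem (by decide +kernel)

theorem step9_mem : val ⟨0, 1, 1, -1, 0, 0, 0, -1⟩ ∈ Spor.icosians :=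
  mul_mem step8_mem gg_mem (by decide +kernel)

theorem step10_mem : val ⟨-1, 1, 0, 0, 0, 0, 0, 0⟩ ∈ Spor.icosians :=
  mul_mem step9_mem gg_mem (by decide +kernel)

theorem step11_mem : val ⟨0, 1, 0, 0, 0, 0, 0, 0⟩ ∈ Spor.icosians :=
  add_mem step4_mem step10_mem (by decide +kernel)

theorem basis1_mem : val ⟨0, 1, 0, 0, 0, 0, 0, 0⟩ ∈ Spor.icosians :=
  step11_mem

theorem step12_mem : val ⟨-1, 1, 1, 0, -1, 0, 0, -1⟩ ∈ Spor.icosians :=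
  mul_mem gg_mem gi_mem (by decide +kernel)

theorem step13_mem : val ⟨-1, 1, 0, 1, -1, -1, 0, -1⟩ ∈ Spor.icosians :=
  mul_mem step12_mem gg_mem (by decide +kernel)

theorem step14_mem : val ⟨0, 0, -1, 1, 0, -1, 0, 0⟩ ∈ Spor.icosians :=
  mul_mem step13_mem gg_mem (by decide +kernel)

theorem step15_mem : val ⟨1, -1, 0, 0, 1, 0, 0, 1⟩ ∈ Spor.icosians :=
  mul_mem step14_mem gi_mem (by decide +kernel)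

theorem step16_mem : val ⟨0, 0, 1, 0, 0, 0, 0, 0⟩ ∈ Spor.icosians :=
  add_mem step12_mem step15_mem (by decide +kernel)

theorem basis2_mem : val ⟨0, 0, 1, 0, 0, 0, 0, 0⟩ ∈ Spor.icosians :=
  step16_mem

theorem step17_mem : val ⟨-1, 1, 0, 1, -1, 0, 0, -1⟩ ∈ Spor.icosians :=
  add_mem step12_mem step3_mem (by decide +kernel)

theorem step18_mem : val ⟨0, 0, 0, 1, 0, 0, 0, 0⟩ ∈ Spor.icosians :=
  add_mem step17_mem step15_mem (by decide +kernel)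

theorem basis3_mem : val ⟨0, 0, 0, 1, 0, 0, 0, 0⟩ ∈ Spor.icosians :=
  step18_mem

theorem step19_mem : val ⟨-1, 1, 1, 0, -1, -1, 0, -1⟩ ∈ Spor.icosians :=
  mul_mem gi_mem gg_mem (by decide +kernel)

theorem step20_mem : val ⟨-1, 0, -1, 1, 0, 0, 0, 1⟩ ∈ Spor.icosians :=
  mul_mem step19_mem gi_mem (by decide +kernel)

theorem step21_mem : val ⟨0, -1, -1, 1, 0, 0, 0, 1⟩ ∈ Spor.icosians :=
  mul_mem step20_mem gg_mem (by decide +kernel)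

theorem step22_mem : val ⟨1, -1, 0, 0, 0, 0, 0, 0⟩ ∈ Spor.icosians :=
  mul_mem step21_mem gg_mem (by decide +kernel)

theorem step23_mem : val ⟨0, 0, 1, -1, 0, 0, 1, 0⟩ ∈ Spor.icosians :=
  mul_mem step22_mem gi_mem (by decide +kernel)

theorem step24_mem : val ⟨-1, 0, 0, -1, 1, 1, 1, 1⟩ ∈ Spor.icosians :=
  mul_mem step23_mem gg_mem (by decide +kernel)

theorem step25_mem : val ⟨0, 1, -1, 0, 0, 0, -1, 0⟩ ∈ Spor.icosians :=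
  mul_mem step24_mem gi_mem (by decide +kernel)

theorem step26_mem : val ⟨0, 0, -1, 0, 0, 1, 0, 1⟩ ∈ Spor.icosians :=
  mul_mem step25_mem gg_mem (by decide +kernel)

theorem step27_mem : val ⟨0, -1, 0, 0, 0, 1, 1, 1⟩ ∈ Spor.icosians :=
  mul_mem step26_mem gg_mem (by decide +kernel)

theorem step28_mem : val ⟨0, 0, 0, -1, 1, 1, 1, 0⟩ ∈ Spor.icosians :=
  mul_mem step27_mem gi_mem (by decide +kernel)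

theorem step29_mem : val ⟨0, 0, 0, 0, 1, 0, 0, 0⟩ ∈ Spor.icosians :=
  mul_mem step28_mem gg_mem (by decide +kernel)

theorem basis4_mem : val ⟨0, 0, 0, 0, 1, 0, 0, 0⟩ ∈ Spor.icosians :=
  step29_mem

theorem step30_mem : val ⟨0, 0, 0, 0, 0, 1, 0, 0⟩ ∈ Spor.icosians :=
  add_mem step12_mem step7_mem (by decide +kernel)

theorem basis5_mem : val ⟨0, 0, 0, 0, 0, 1, 0, 0⟩ ∈ Spor.icosians :=
  step30_mem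

theorem step31_mem : val ⟨-1, 0, -1, 1, 0, 0, 0, 0⟩ ∈ Spor.icosians :=
  mul_mem step5_mem gg_mem (by decide +kernel)

theorem step32_mem : val ⟨1, -1, -1, 0, 1, 0, 0, 1⟩ ∈ Spor.icosians :=
  mul_mem step31_mem gi_mem (by decide +kernel)

theorem step33_mem : val ⟨1, -1, 0, -1, 1, 1, 0, 1⟩ ∈ Spor.icosians :=
  mul_mem step32_mem gg_mem (by decide +kernel)

theorem step34_mem : val ⟨0, 0, 1, -1, 0, 1, 0, 0⟩ ∈ Spor.icosians :=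
  mul_mem step33_mem gg_mem (by decide +kernel)

theorem step35_mem : val ⟨-1, 1, 0, 0, -1, 0, 0, -1⟩ ∈ Spor.icosians :=
  mul_mem step34_mem gi_mem (by decide +kernel)

theorem step36_mem : val ⟨0, 1, -1, 0, 0, 0, 0, -1⟩ ∈ Spor.icosians :=
  mul_mem step35_mem gg_mem (by decide +kernel)

theorem step37_mem : val ⟨1, 0, 0, 1, 0, -2, -1, -1⟩ ∈ Spor.icosians :=
  mul_mem step36_mem gi_mem (by decide +kernel)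

theorem step38_mem : val ⟨1, 0, 0, 0, 0, -1, -1, 0⟩ ∈ Spor.icosians :=
  mul_mem step37_mem gg_mem (by decide +kernel)

theorem step39_mem : val ⟨0, 0, 0, -1, 0, 1, 0, 1⟩ ∈ Spor.icosians :=
  mul_mem step38_mem gg_mem (by decide +kernel)

theorem step40_mem : val ⟨0, 1, 0, 0, -1, 0, 0, -1⟩ ∈ Spor.icosians :=
  mul_mem step39_mem gi_mem (by decide +kernel)

theorem step41_mem : val ⟨0, 0, 0, 0, 0, 0, 1, 0⟩ ∈ Spor.icosians :=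
  mul_mem step40_mem gg_mem (by decide +kernel)

theorem basis6_mem : val ⟨0, 0, 0, 0, 0, 0, 1, 0⟩ ∈ Spor.icosians :=
  step41_mem

theorem step42_mem : val ⟨0, 0, 0, 0, 0, 0, 0, 1⟩ ∈ Spor.icosians :=
  add_mem gg_mem step20_mem (by decide +kernel)

theorem basis7_mem : val ⟨0, 0, 0, 0, 0, 0, 0, 1⟩ ∈ Spor.icosians :=
  step42_mem

theorem val_mem (P : Ico) : val P ∈ Spor.icosians := by
  have e : val P = P.a0 • val ⟨1, 0, 0, 0, 0, 0, 0, 0⟩ + P.a1 • val ⟨0, 1, 0, 0, 0, 0, 0, 0⟩ + P.b0 • val ⟨0, 0, 1, 0, 0, 0, 0, 0⟩ + P.b1 • val ⟨0, 0, 0, 1, 0, 0, 0, 0⟩ + P.e0 • val ⟨0, 0, 0, 0, 1, 0, 0, 0⟩ + P.e1 • val ⟨0, 0, 0, 0, 0, 1, 0, 0⟩ + P.f0 • val ⟨0, 0, 0, 0, 0, 0, 1, 0⟩ + P.f1 • val ⟨0, 0, 0, 0, 0, 0, 0, 1⟩ := by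
    ext <;> simp [val_re, val_imI, val_imJ, val_imK, zt] <;> ring
  rw [e]
  repeat' first
    | apply Subring.add_mem
    | exact zsmul_mem basis0_mem _
    | exact zsmul_mem basis1_mem _
    | exact zsmul_mem basis2_mem _
    | exact zsmul_mem basis3_mem _
    | exact zsmul_mem basis4_mem _
    | exact zsmul_mem basis5_mem _
    | exact zsmul_mem basis6_mem _
    | exact zsmul_mem basis7_mem _

theorem exists_val {x : ℍ[ℝ]} (hx : x ∈ Spor.icosians) : ∃ P : Ico, val P = x := by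
  let J : Subring ℍ[ℝ] :=
    { carrier := Set.range val
      mul_mem' := fun {_ _} ⟨P, hP⟩ ⟨Q, hQ⟩ => ⟨mul P Q, by rw [val_mul, hP, hQ]⟩
      one_mem' := ⟨one, val_one⟩
      add_mem' := fun {_ _} ⟨P, hP⟩ ⟨Q, hQ⟩ => ⟨add P Q, by rw [val_add, hP, hQ]⟩
      zero_mem' := ⟨zero, val_zero⟩
      neg_mem' := fun {_} ⟨P, hP⟩ => ⟨sub zero P, by rw [val_sub, val_zero, hP, zero_sub]⟩ }
  exact (Subring.closure_le (t := J)).2 (Set.insert_subset ⟨gi, val_gi⟩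
    (Set.singleton_subset_iff.2 ⟨gg, val_gg⟩)) hx

end Ico

end Cfsg.Agent.FGS2.J2
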