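import Cfsg.Agent.FGS2.J2.CheckI
import Cfsg.Prelude.Def_KGroupFacts

/-!
The outer automorphism group of the Hall–Janko group has order two: an automorphism given by a matrix
normalising the group, and rigidity of four generating reflections.
-/

set_option autoImplicit false
set_option maxRecDepth 100000

namespace Cfsg.Agent.FGS2.J2

theorem finite_model : Finite Spor.J2 := Nat.finite_of_card_ne_zero (by rw [card_J2]; norm_num)

/-- A packed matrix with entries zero and one. -/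
def Bin (x : ℕ) : Prop := ∃ a : ℕ → ℕ, (∀ k < 144, a k < 2) ∧ x = pack 144 a

theorem Bin.id : Bin idCode := ⟨_, fun k _ => by split_ifs <;> norm_num, rfl⟩

theorem Bin.autX : Bin autX := ⟨autEnt, fun k _ => by unfold autEnt; split_ifs <;> norm_num, rfl⟩

theorem Bin.M (g : Spor.J2) : Bin (M g) := by
  obtain ⟨a, rfl⟩ := QuotientGroup.mk_surjective g
  exact ⟨_, fun k _ => ent_lt (cmat a) k, rfl⟩

theorem sum_mod_mul (s : Finset ℕ) (f g : ℕ → ℕ) :
    (∑ i ∈ s, f i % 2 * g i) % 2 = (∑ i ∈ s, f i * g i) % 2 := by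
  rw [Finset.sum_nat_mod]
  conv_rhs => rw [Finset.sum_nat_mod]
  refine congrArg (· % 2) (Finset.sum_congr rfl fun i _ => ?_)
  rw [Nat.mul_mod, Nat.mod_mod, ← Nat.mul_mod]

theorem sum_mul_mod (s : Finset ℕ) (f g : ℕ → ℕ) :
    (∑ i ∈ s, g i * (f i % 2)) % 2 = (∑ i ∈ s, g i * f i) % 2 := by
  simp only [mul_comm (g _)]; exact sum_mod_mul s f g

attribute [local irreducible] pack mmul in
theorem Bin.assoc {x y z : ℕ} (hx : Bin x) (hy : Bin y) (hz : Bin z) :
    mmul (mmul x y) z = mmul x (mmul y z) := by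
  obtain ⟨a, ha, rfl⟩ := hx
  obtain ⟨b, hb, rfl⟩ := hy
  obtain ⟨c, hc, rfl⟩ := hz
  rw [mmul_pack a b ha hb, mmul_pack b c hb hc, mmul_pack _ c (fun k _ => Nat.mod_lt _ (by norm_num)) hc,
    mmul_pack a _ ha (fun k _ => Nat.mod_lt _ (by norm_num))]
  refine pack_congr _ _ _ fun k hk => ?_
  rw [sum_mod_mul, sum_mul_mod]
  simp only [Finset.sum_mul, Finset.mul_sum]
  rw [Finset.sum_comm]
  refine congrArg (· % 2) (Finset.sum_congr rfl fun i hi => Finset.sum_congr rfl fun j hj => ?_)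
  rw [Finset.mem_range] at hi hj
  rw [show (12 * (k / 12) + j) / 12 = k / 12 by omega, show (12 * (k / 12) + j) % 12 = j by omega,
    show (12 * i + k % 12) / 12 = i by omega, show (12 * i + k % 12) % 12 = k % 12 by omega, mul_assoc]

theorem M_id (g : Spor.J2) : mmul (M g) idCode = M g := (lift_M g).mul_id

theorem id_M (g : Spor.J2) : mmul idCode (M g) = M g := (lift_M g).id_mul

/-- A generator. -/
noncomputable def kEl (a : ℕ) : Spor.J2 := ofCode (kAt a)

theorem M_kEl {a : ℕ} (ha : a < 4) : M (kEl a) = kAt a := M_ofCode (lift_kAt ha)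

theorem gen_induction {P : Spor.J2 → Prop} (h1 : P 1) (hm : ∀ x y, P x → P y → P (x * y))
    (hk : ∀ a < 4, P (kEl a)) (g : Spor.J2) : P g := by
  have hw : ∀ w : List ℕ, (∀ a ∈ w, a < 4) → ∃ x, P x ∧ M x = wordCode w := by
    intro w
    induction w with
    | nil => exact fun _ => ⟨1, h1, by rw [M_one, wordCode, List.foldr_nil]⟩
    | cons a w ih =>
      intro h
      obtain ⟨x, hx, e⟩ := ih fun b hb => h b (List.mem_cons_of_mem _ hb)
      refine ⟨kEl a * x, hm _ _ (hk a (h a List.mem_cons_self)) hx, ?_⟩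
      rw [M_mul, M_kEl (h a List.mem_cons_self), e, wordCode, wordCode, List.foldr_cons]
  have hu : ∀ n, n < 315 → P (uEl n) := by
    intro n
    induction n using Nat.strong_induction_on with
    | _ n ih =>
      intro hn
      by_cases h0 : n = 0
      · subst h0; rw [uEl_zero]; exact h1
      · obtain ⟨hp, he⟩ := (u_spec hn).2.1 h0
        rw [show uEl n = kEl (getT uparTab 63 n % 4) * uEl (getT uparTab 63 n / 4) from M_inj (by
          rw [M_mul, M_kEl (Nat.mod_lt _ (by norm_num)), M_uEl hn, M_uEl (lt_trans hp hn), he])]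
        exact hm _ _ (hk _ (Nat.mod_lt _ (by norm_num))) (ih _ hp (lt_trans hp hn))
  have hh : ∀ m, m < 1920 → P (hEl m) := by
    intro m
    induction m using Nat.strong_induction_on with
    | _ m ih =>
      intro hlt
      by_cases h0 : m = 0
      · subst h0
        rwa [show hEl 0 = 1 from M_inj (by rw [M_hEl hlt, (h_spec hlt).1 rfl, M_one])]
      · obtain ⟨hp, he⟩ := (h_spec hlt).2 h0
        obtain ⟨x, hx, e⟩ := hw _ (hgWord_lt (getT hparTab 48 m % 2) (Nat.mod_lt _ (by norm_num)))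
        rw [show hEl m = x * hEl (getT hparTab 48 m / 2) from M_inj (by
          rw [M_mul, M_hEl hlt, M_hEl (lt_trans hp hlt), he, e, hgAt])]
        exact hm _ _ hx (ih _ hp (lt_trans hp hlt))
  obtain ⟨n, hn, m, hlt, rfl⟩ := exists_el g
  exact hm _ _ (hu n hn) (hh m hlt)

theorem autX_exists (g : Spor.J2) : ∃ g', mmul autX (M g) = mmul (M g') autX := by
  induction g using gen_induction with
  | h1 => exact ⟨1, by rw [M_one, autX_id]⟩
  | hm x y hx hy =>
    obtain ⟨x', ex⟩ := hx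
    obtain ⟨y', ey⟩ := hy
    refine ⟨x' * y', ?_⟩
    rw [M_mul, M_mul, ← Bin.autX.assoc (Bin.M x) (Bin.M y), ex, (Bin.M x').assoc Bin.autX (Bin.M y), ey,
      (Bin.M x').assoc (Bin.M y') Bin.autX]
  | hk a ha =>
    have h := List.all_eq_true.1 autX_gen a (List.mem_range.2 ha)
    simp only [Bool.and_eq_true, decide_eq_true_eq, beq_iff_eq] at h
    refine ⟨uEl (autImg.getD a (0, 0)).1 * hEl (autImg.getD a (0, 0)).2, ?_⟩
    rw [M_kEl ha, M_mul, M_uEl h.1.1, M_hEl h.1.2, h.2, el]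

/-- Conjugation by the matrix. -/
noncomputable def autFun (g : Spor.J2) : Spor.J2 := (autX_exists g).choose

theorem autFun_spec (g : Spor.J2) : mmul autX (M g) = mmul (M (autFun g)) autX := (autX_exists g).choose_spec

theorem autFun_eq {g h : Spor.J2} (e : mmul autX (M g) = mmul (M h) autX) : autFun g = h := by
  apply M_inj
  rw [← M_id (autFun g), ← M_id h, ← autX_sq, ← (Bin.M _).assoc Bin.autX Bin.autX, ← autFun_spec, e,
    (Bin.M h).assoc Bin.autX Bin.autX]

theorem autFun_mul (x y : Spor.J2) : autFun (x * y) = autFun x * autFun y := by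
  refine autFun_eq ?_
  rw [M_mul, M_mul, ← Bin.autX.assoc (Bin.M x) (Bin.M y), autFun_spec, (Bin.M _).assoc Bin.autX (Bin.M y),
    autFun_spec, (Bin.M _).assoc (Bin.M _) Bin.autX]

theorem autFun_injective : Function.Injective autFun := by
  intro x y h
  apply M_inj
  rw [← id_M x, ← id_M y, ← autX_sq, Bin.autX.assoc Bin.autX (Bin.M x), Bin.autX.assoc Bin.autX (Bin.M y),
    autFun_spec, autFun_spec, h]

/-- The outer automorphism. -/
noncomputable def outerAut : MulAut Spor.J2 :=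
  haveI := finite_model
  MulEquiv.ofBijective (MonoidHom.mk' autFun autFun_mul)
    (Finite.injective_iff_bijective.1 autFun_injective)

theorem outerAut_apply (g : Spor.J2) : outerAut g = autFun g := rfl

theorem outerAut_zero : outerAut (tRef 0) = tRef 0 :=
  autFun_eq (by rw [M_tRef (by norm_num), autX_pos.1])

theorem outerAut_two : outerAut (tRef 2) = tRef 19 :=
  autFun_eq (by rw [M_tRef (by norm_num), M_tRef (by norm_num), autX_pos.2])

theorem tRef_zero_ne : tRef 0 ≠ 1 := fun h => tc_zero_ne (by rw [← M_tRef (show 0 < 315 by norm_num), h, M_one])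

theorem outerAut_notMem : outerAut ∉ Cfsg.Inn Spor.J2 := by
  rintro ⟨c, hc⟩
  have h0 : c * tRef 0 * c⁻¹ = tRef 0 := by
    have := DFunLike.congr_fun hc (tRef 0)
    rw [outerAut_zero, MulAut.conj_apply] at this
    exact this
  obtain ⟨m, hm, rfl⟩ := stab_exists (mem_stab.2 (mul_inv_eq_iff_eq_mul.1 h0))
  have h2 := DFunLike.congr_fun hc (tRef 2)
  rw [outerAut_two, MulAut.conj_apply] at h2
  have h3 := congrArg M (mul_inv_eq_iff_eq_mul.1 h2)
  rw [M_mul, M_mul, M_hEl hm, M_tRef (by norm_num), M_tRef (by norm_num)] at h3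
  have := List.all_eq_true.1 aut_outer m (List.mem_range.2 hm)
  rw [h3] at this
  simp at this

theorem conj_tRef (c : Spor.J2) {n : ℕ} (hn : n < 315) : ∃ p < 315, c * tRef n * c⁻¹ = tRef p := by
  obtain ⟨p, hp, q, hq, e⟩ := exists_el (c * uEl n)
  refine ⟨p, hp, ?_⟩
  rw [← conj_el hp hq, ← e, ← conj_uEl hn]
  group

theorem sqOK_all {j m : ℕ} (hj : j < 6) (hm : m < 1920) : sqOK j m = true := by
  interval_cases j
  exacts [List.all_eq_true.1 sq0 m (List.mem_range.2 hm), List.all_eq_true.1 sq1 m (List.mem_range.2 hm),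
    List.all_eq_true.1 sq2 m (List.mem_range.2 hm), List.all_eq_true.1 sq3 m (List.mem_range.2 hm),
    List.all_eq_true.1 sq4 m (List.mem_range.2 hm), List.all_eq_true.1 sq5 m (List.mem_range.2 hm)]

theorem sq_tRef (g : Spor.J2) (h4 : g ^ 2 * g ^ 2 = 1) (h2 : g ^ 2 ≠ 1) : ∃ p < 315, g ^ 2 = tRef p := by
  obtain ⟨n, hn, m, hm, hg⟩ := exists_el g
  obtain ⟨hj, hh, hr, e⟩ := sub_spec hn
  set c := hEl (subH n) with hc
  obtain ⟨n', hn', m', hm', hy⟩ := exists_el (c * g * c⁻¹)
  have hgt : g * tRef 0 * g⁻¹ = tRef n := by rw [hg]; exact conj_el hn hm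
  have : n' = subR (subJ n) := by
    refine tRef_inj hn' hr ?_
    rw [← conj_el hn' hm', ← hy, ← e, ← hgt]
    have h0 : c⁻¹ * tRef 0 * c = tRef 0 := by
      rw [mul_assoc, hc, ← hEl_commute hh, inv_mul_cancel_left]
    calc _ = c * g * (c⁻¹ * tRef 0 * c) * g⁻¹ * c⁻¹ := by group
      _ = _ := by rw [h0]; group
  subst this
  have hsq : (c * g * c⁻¹) * (c * g * c⁻¹) = c * g ^ 2 * c⁻¹ := by rw [pow_two]; group
  have hok := sqOK_all hj hm'
  have hM : M (c * g * c⁻¹) = el (subR (subJ n)) m' := by rw [hy, M_mul, M_uEl hr, M_hEl hm', el]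
  rw [sqOK, ← hM, ← M_mul, hsq, sqTest, ← M_mul, ← M_one] at hok
  simp only [Bool.or_eq_true, beq_iff_eq, M_inj.eq_iff, Bool.not_eq_true', beq_eq_false_iff_ne,
    List.any_eq_true, List.mem_range] at hok
  rcases hok with (h | h) | ⟨p, hp, h⟩
  · exact absurd (conj_eq_one_iff.1 h) h2
  · refine absurd ?_ h
    rw [conj_mul, h4, mul_one, mul_inv_cancel]
  · obtain ⟨q, hq, eq'⟩ := conj_tRef c⁻¹ hp
    refine ⟨q, hq, ?_⟩
    rw [← eq', ← show c * g ^ 2 * c⁻¹ = tRef p from M_inj (by rw [h, M_tRef hp])]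
    group

theorem aut_tRef (θ : MulAut Spor.J2) {n : ℕ} (hn : n < 315) : ∃ p < 315, θ (tRef n) = tRef p := by
  have hz : hEl autRoot * hEl autRoot = tRef 0 :=
    M_inj (by rw [M_mul, M_hEl autRoot_ok.1, autRoot_ok.2, M_tRef (by norm_num)])
  have hr : (uEl n * hEl autRoot * (uEl n)⁻¹) ^ 2 = tRef n := by
    rw [pow_two, ← conj_uEl hn, ← hz]; group
  have h1 : tRef n * tRef n = 1 := by
    rw [← conj_uEl hn]
    have : tRef 0 * tRef 0 = 1 := M_inj (by rw [M_mul, M_tRef (by norm_num), M_one, tc_zero_sq])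
    calc _ = uEl n * (tRef 0 * tRef 0) * (uEl n)⁻¹ := by group
      _ = _ := by rw [this]; group
  have h2 : tRef n ≠ 1 := by
    intro h
    refine tRef_zero_ne ?_
    have := conj_uEl hn
    rw [h] at this
    exact conj_eq_one_iff.1 this
  obtain ⟨p, hp, e⟩ := sq_tRef (θ (uEl n * hEl autRoot * (uEl n)⁻¹))
    (by rw [← map_pow, hr, ← map_mul, h1, map_one]) (by rw [← map_pow, hr]; exact (map_ne_one_iff θ θ.injective).2 h2)
  exact ⟨p, hp, by rw [← hr, map_pow, e]⟩

/-- The product of reflections at given positions. -/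
noncomputable def posEl (p : List ℕ) (w : List ℕ) : Spor.J2 := (w.map fun a => tRef (p.getD a 0)).prod

theorem M_posEl (p : List ℕ) : ∀ w : List ℕ, (∀ a ∈ w, p.getD a 0 < 315) → M (posEl p w) = posWord p w
  | [], _ => by rw [posEl, List.map_nil, List.prod_nil, M_one, posWord, List.foldr_nil]
  | a :: w, h => by
    rw [posEl, List.map_cons, List.prod_cons, M_mul, M_tRef (h a List.mem_cons_self),
      ← posEl, M_posEl p w fun b hb => h b (List.mem_cons_of_mem _ hb), posWord, posWord, List.foldr_cons]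

theorem map_posEl (θ : MulAut Spor.J2) (p q : List ℕ) (w : List ℕ)
    (h : ∀ a ∈ w, θ (tRef (p.getD a 0)) = tRef (q.getD a 0)) : θ (posEl p w) = posEl q w := by
  rw [posEl, posEl, map_list_prod, List.map_map]
  exact congrArg List.prod (List.map_congr_left h)

theorem rel_map (θ : MulAut Spor.J2) {p q w : List ℕ} {k : ℕ} (hp : ∀ a ∈ w, p.getD a 0 < 315)
    (hq : ∀ a ∈ w, q.getD a 0 < 315) (h : ∀ a ∈ w, θ (tRef (p.getD a 0)) = tRef (q.getD a 0))
    (e : pw (posWord p w) k = idCode) : pw (posWord q w) k = idCode := by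
  rw [← M_posEl q w hq, ← M_pow, ← map_posEl θ p q w h, ← map_pow,
    M_inj (show M (posEl p w ^ k) = M 1 by rw [M_pow, M_posEl p w hp, e, M_one]), map_one, M_one]

theorem four_fixed (θ : MulAut Spor.J2) (h0 : θ (tRef 0) = tRef 0) (h2 : θ (tRef 2) = tRef 2)
    (h1 : θ (tRef 1) = tRef 1) : θ = 1 := by
  obtain ⟨n, hn, e⟩ := aut_tRef θ (show 3 < 315 by norm_num)
  have hmap : ∀ a < 4, θ (tRef (autPos.getD a 0)) = tRef ([0, 2, 1, n].getD a 0) := by
    intro a ha; interval_cases a <;> assumption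
  have hp : ∀ a < 4, autPos.getD a 0 < 315 := by decide +kernel
  have hq : ∀ a < 4, [0, 2, 1, n].getD a 0 < 315 := by
    intro a ha; interval_cases a <;> first | exact hn | norm_num
  have hrel : relOK [0, 2, 1, n] autRelC = true := by
    rw [relOK, List.all_eq_true]
    intro r hr
    have hs := List.all_eq_true.1 autRel_slots.2 r hr
    simp only [List.all_eq_true, decide_eq_true_eq] at hs
    have hself := List.all_eq_true.1 autRel_self.2 r hr
    rw [beq_iff_eq] at hself ⊢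
    exact rel_map θ (fun a h => hp a (hs a h)) (fun a h => hq a (hs a h)) (fun a h => hmap a (hs a h)) hself
  have h4 := List.all_eq_true.1 aut_fourth n (List.mem_range.2 hn)
  rw [hrel] at h4
  simp at h4
  subst h4
  have hk : ∀ a < 4, θ (kEl a) = kEl a := by
    intro a ha
    have h := List.all_eq_true.1 autWord_ok a (List.mem_range.2 ha)
    simp only [Bool.and_eq_true, List.all_eq_true, decide_eq_true_eq, beq_iff_eq] at h
    have : kEl a = posEl autPos (autWord.getD a []) :=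
      M_inj (by rw [M_kEl ha, M_posEl _ _ (fun b hb => hp b (h.1 b hb)), h.2])
    rw [this, map_posEl θ autPos autPos _ (fun b hb => hmap b (h.1 b hb))]
  refine MulEquiv.ext fun g => ?_
  induction g using gen_induction with
  | h1 => exact map_one θ
  | hm x y hx hy => rw [map_mul, hx, hy]; rfl
  | hk a ha => exact hk a ha

theorem second_fixed (θ : MulAut Spor.J2) (h0 : θ (tRef 0) = tRef 0) (h2 : θ (tRef 2) = tRef 2) :
    θ ∈ Cfsg.Inn Spor.J2 := by
  obtain ⟨n, hn, e⟩ := aut_tRef θ (show 1 < 315 by norm_num)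
  have hrel : relOK [0, 2, n, 0] autRelB = true := by
    rw [relOK, List.all_eq_true]
    intro r hr
    have hs := List.all_eq_true.1 autRel_slots.1 r hr
    simp only [List.all_eq_true, decide_eq_true_eq] at hs
    have hself := List.all_eq_true.1 autRel_self.1 r hr
    rw [beq_iff_eq] at hself ⊢
    refine rel_map θ (fun a h => ?_) (fun a h => ?_) (fun a h => ?_) hself <;> have := hs a h <;>
      interval_cases a <;> simp [autPos, hn, h0, h2, e]
  have h := List.all_eq_true.1 aut_third n (List.mem_range.2 hn)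
  rw [hrel] at h
  simp only [Bool.not_true, Bool.false_or, List.any_eq_true, Bool.and_eq_true, decide_eq_true_eq, beq_iff_eq] at h
  obtain ⟨w, -, ⟨⟨rfl, hm⟩, e2⟩, e1⟩ := h
  have c2 : hEl w.2 * tRef 2 * (hEl w.2)⁻¹ = tRef 2 :=
    mul_inv_eq_iff_eq_mul.2 (M_inj (by rw [M_mul, M_mul, M_hEl hm, M_tRef (by norm_num), e2]))
  have c1 : hEl w.2 * tRef 1 * (hEl w.2)⁻¹ = tRef w.1 :=
    mul_inv_eq_iff_eq_mul.2 (M_inj (by rw [M_mul, M_mul, M_hEl hm, M_tRef (by norm_num), M_tRef hn, e1]))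
  have c0 : hEl w.2 * tRef 0 * (hEl w.2)⁻¹ = tRef 0 := mul_inv_eq_iff_eq_mul.2 (hEl_commute hm)
  have key := four_fixed ((MulAut.conj (hEl w.2))⁻¹ * θ)
    (by rw [MulAut.mul_apply, h0, MulAut.conj_inv_apply]; conv_lhs => rw [← c0]
        group)
    (by rw [MulAut.mul_apply, h2, MulAut.conj_inv_apply]; conv_lhs => rw [← c2]
        group)
    (by rw [MulAut.mul_apply, e, MulAut.conj_inv_apply]; conv_lhs => rw [← c1]
        group)
  exact ⟨hEl w.2, inv_mul_eq_one.1 key⟩

theorem aut_cases (θ : MulAut Spor.J2) :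
    θ ∈ Cfsg.Inn Spor.J2 ∨ θ * outerAut⁻¹ ∈ Cfsg.Inn Spor.J2 := by
  obtain ⟨n, hn, e⟩ := aut_tRef θ (show 0 < 315 by norm_num)
  set θ₁ := (MulAut.conj (uEl n))⁻¹ * θ with hθ₁
  have f0 : θ₁ (tRef 0) = tRef 0 := by
    rw [hθ₁, MulAut.mul_apply, e, MulAut.conj_inv_apply, ← conj_uEl hn]; group
  obtain ⟨p, hp, ep⟩ := aut_tRef θ₁ (show 2 < 315 by norm_num)
  have hp0 : p ≠ 0 := by
    rintro rfl
    exact absurd (tRef_inj (by norm_num) (by norm_num) (θ₁.injective (ep.trans f0.symm))) (by norm_num)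
  have h5 : pw (posWord [0, p] [0, 1]) 5 = idCode := by
    refine rel_map θ₁ (p := [0, 2]) ?_ ?_ ?_ aut_second_self <;> intro a ha <;> fin_cases ha <;>
      first | exact hp | exact f0 | exact ep | norm_num
  have hj := List.all_eq_true.1 aut_second p (List.mem_range.2 hp)
  simp [hp0, h5] at hj
  obtain ⟨-, hh, -, es⟩ := sub_spec hp
  set θ₂ := MulAut.conj (hEl (subH p)) * θ₁ with hθ₂
  have g0 : θ₂ (tRef 0) = tRef 0 := by
    rw [hθ₂, MulAut.mul_apply, f0, MulAut.conj_apply]
    exact mul_inv_eq_iff_eq_mul.2 (hEl_commute hh)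
  have g2 : θ₂ (tRef 2) = tRef (subR (subJ p)) := by
    rw [hθ₂, MulAut.mul_apply, ep, MulAut.conj_apply, es]
  have hθ : θ = MulAut.conj (uEl n) * (MulAut.conj (hEl (subH p)))⁻¹ * θ₂ := by
    rw [hθ₂, hθ₁]; group
  have hi : MulAut.conj (uEl n) * (MulAut.conj (hEl (subH p)))⁻¹ ∈ Cfsg.Inn Spor.J2 :=
    mul_mem ⟨_, rfl⟩ (inv_mem ⟨_, rfl⟩)
  rcases hj with hj | hj
  · rw [hj, show subR 2 = 2 by decide +kernel] at g2
    exact Or.inl (hθ ▸ mul_mem hi (second_fixed θ₂ g0 g2))
  · rw [hj, show subR 5 = 19 by decide +kernel, ← outerAut_two] at g2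
    have k := second_fixed (outerAut⁻¹ * θ₂)
      (by rw [MulAut.mul_apply, g0]; exact (MulEquiv.symm_apply_eq outerAut).2 outerAut_zero.symm)
      (by rw [MulAut.mul_apply, g2]; exact outerAut.symm_apply_apply _)
    refine Or.inr ?_
    rw [hθ, mul_assoc _ θ₂, show θ₂ * outerAut⁻¹ = outerAut * (outerAut⁻¹ * θ₂) * outerAut⁻¹ by group]
    exact mul_mem hi ((inferInstance : (Cfsg.Inn Spor.J2).Normal).conj_mem _ k _)

theorem card_out : Nat.card (Cfsg.Out Spor.J2) = 2 := by
  show Nat.card (MulAut Spor.J2 ⧸ Cfsg.Inn Spor.J2) = 2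
  rw [← Subgroup.index_eq_card, Subgroup.index_eq_two_iff]
  refine ⟨outerAut⁻¹, fun θ => ?_⟩
  by_cases h : θ ∈ Cfsg.Inn Spor.J2
  · refine Or.inr ⟨h, fun h' => outerAut_notMem ?_⟩
    have := inv_mem ((Subgroup.mul_mem_cancel_left _ h).1 h')
    simpa using this
  · exact Or.inl ⟨(aut_cases θ).resolve_left h, h⟩

end Cfsg.Agent.FGS2.J2
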