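import Mathlib

/-! Data for the Schur multiplier. -/

set_option autoImplicit false

namespace Cfsg.Agent.FGS2.J2

/-- Stabiliser indices of seven involutions generating a Sylow 2-subgroup. -/
def schGen : List ℕ := [395, 512, 939, 30, 293, 359, 1825]

/-- The conjugation table. -/
def schConjTab : List (List ℕ) := [[], [], [], [], [], [], [], [3, 4, 5], [], [], [], [], [], [], [4, 6], [2], [],
    [], [], [], [], [3], [3], [3], [], [], [], [], [1, 5], [3, 4], [3, 4, 5], [4], [], [], [], [3, 5], [5],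
    [5], [5], [5], [], [], [1, 2, 5], [3, 5, 6], [5, 6], [6], [6], [6], []]

/-- Words for the involutions. -/
def schSqs : List (List ℕ) := [[0, 1, 2, 5, 6], [0, 1, 2, 3, 5, 6], [0, 2, 3, 4, 6], [5], [0, 1, 4, 5], [4],
    [3], [4, 5], [0, 2, 4, 6], [3, 5], [0, 1, 3, 4, 5], [3, 4], [5, 6], [1], [1, 2, 3, 5], [3, 5, 6], [1, 3],
    [1, 2, 5], [1, 2], [1, 2, 3], [6], [3, 6], [1, 3, 5], [3, 4, 5], [0], [1, 5], [0, 3], [4, 5, 6], [3, 4, 5,
    6], [2, 5], [2, 3, 5], [2], [2, 3], [4, 6], [3, 4, 6]]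

/-- Two pairs of conjugate commuting pairs. -/
def schFus : List (List ℕ × List ℕ × List ℕ × List ℕ) := [([0, 1, 2, 5, 6], [0, 2, 4, 5, 6], [0, 2, 3, 4, 6],
    [0, 3, 5]), ([0, 1, 2, 5, 6], [1, 2, 3, 6], [0, 2, 3, 4, 6], [0, 1, 2, 3, 6])]

/-- The conjugating elements. -/
def schFusBy : List ℕ := [1, 1]

/-- A consistency triple. -/
def schOvs : List (List ℕ × List ℕ × List ℕ) := [([4], [2, 0], [])]

/-- Corrections of the lifts. -/
def schShift : List ℕ := [0, 30787399335936, 13230378319872, 13230109900928, 0, 26389352808448, 0]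

/-- Selected combinations. -/
def schSel : List ℕ := [0, 0, 0, 0, 0, 0, 0, 137439021187, 0, 0, 0, 0, 0, 0, 137439068306, 262144, 0, 0, 0, 0,
    0, 3, 65536, 213504, 0, 0, 0, 0, 51217, 103079580306, 34364033046, 2048, 0, 0, 0, 137439070210, 4260352,
    4653568, 512, 128, 0, 0, 137439068306, 68723988997, 103079563795, 37376, 4491286, 4096, 0]

/-- The class of each involution, with a witness. -/
def schClass : List (ℕ × ℕ × ℕ) := [(0, 10, 0), (0, 15, 0), (0, 151, 0), (0, 23, 0), (0, 158, 0), (1, 0, 0),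
    (0, 0, 0), (1, 3, 1012), (0, 41, 0), (0, 3, 0), (0, 230, 0), (1, 45, 1187), (1, 23, 347), (1, 164, 428),
    (1, 108, 1187), (1, 3, 1435), (1, 0, 347), (1, 0, 1012), (1, 3, 0), (1, 23, 1204), (1, 9, 428), (1, 200,
    974), (1, 293, 776), (1, 23, 1435), (0, 120, 0), (1, 161, 0), (0, 141, 0), (1, 3, 347), (1, 23, 1089), (1,
    0, 1435), (1, 46, 571), (1, 3, 1290), (1, 23, 0), (1, 278, 1764), (1, 269, 863)]

/-- An involution that is not a reflection. -/
def schB : ℕ := 293

/-- Three commuting involutions. -/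
def schEight : List (ℕ × ℕ) := [(0, 293), (0, 1826), (0, 1696)]

/-- Witnesses for them and their pair products. -/
def schEightWit : List (ℕ × ℕ × ℕ) := [(1, 0, 0), (1, 23, 347), (1, 23, 1089), (1, 3, 347), (1, 3, 1435), (1,
    45, 1187)]

/-- Witnesses for a four-group. -/
def schFourWit : List (ℕ × ℕ × ℕ) := [(1, 0, 0), (1, 23, 347), (1, 3, 347)]

/-- The generators of the Sylow subgroup as words. -/
def schPgen : List (List ℕ) := [[0, 1, 2, 5, 6], [0, 1, 2, 3, 5, 6], [0, 2, 3, 4, 6], [5], [0, 1, 4, 5], [1, 3,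
    4, 6], [4]]

/-- Generators of a Sylow 3-subgroup and an inverting element. -/
def schThree : List (ℕ × ℕ) := [(3, 1654), (6, 1016), (0, 286)]

/-- Generators of a Sylow 5-subgroup and a swapping element. -/
def schFive : List (ℕ × ℕ) := [(193, 1678), (86, 170), (0, 50)]

/-- A word in reflections. -/
def schX : List ℕ := [300, 292, 193, 39, 300, 292, 193, 39, 193, 300, 292, 193, 300, 39]

/-- A word in reflections commuting with it modulo the centre. -/
def schY : List ℕ := [300, 193, 39, 300, 193, 292, 300, 193, 39, 300, 193, 39, 292, 300, 39]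

end Cfsg.Agent.FGS2.J2
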